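import Mathlib
set_option linter.all false

/-!
Orders of elements of `PSL_n(F)` in terms of endomorphisms of an `n`-dimensional space:
the order of the class of `g` is the least `m` with `g ^ m` scalar.
-/

set_option autoImplicit false

namespace Cfsg.Agent.H159

open Module

/-- `a ^ m` is a scalar. -/
def ScPow (F : Type*) {A : Type*} [Field F] [Ring A] [Algebra F A] (a : A) (m : ℕ) : Prop :=
  ∃ c : F, a ^ m = algebraMap F A c

theorem ScPow.map {F A B : Type*} [Field F] [Ring A] [Algebra F A] [Ring B] [Algebra F B]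
    (φ : A →ₐ[F] B) {a : A} {m : ℕ} (h : ScPow F a m) : ScPow F (φ a) m := by
  obtain ⟨c, hc⟩ := h
  exact ⟨c, by rw [← map_pow, hc, AlgHom.commutes]⟩

theorem scPow_of_injective {F A B : Type*} [Field F] [Ring A] [Algebra F A] [Ring B] [Algebra F B]
    (φ : A →ₐ[F] B) (hφ : Function.Injective φ) {a : A} {m : ℕ} :
    ScPow F (φ a) m ↔ ScPow F a m := by
  constructor
  · rintro ⟨c, hc⟩
    exact ⟨c, hφ (by rw [map_pow, hc, AlgHom.commutes])⟩
  · exact ScPow.map φ

theorem psl_pow_eq_one_iff {F : Type*} [Field F] {n : ℕ}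
    (g : Matrix.SpecialLinearGroup (Fin n) F) (m : ℕ) :
    ((QuotientGroup.mk g : Matrix.ProjectiveSpecialLinearGroup (Fin n) F) ^ m = 1) ↔
      ScPow F (g : Matrix (Fin n) (Fin n) F) m := by
  rw [← QuotientGroup.mk_pow, QuotientGroup.eq_one_iff, Matrix.SpecialLinearGroup.mem_center_iff]
  constructor
  · rintro ⟨c, -, hc⟩
    refine ⟨c, ?_⟩
    rw [← Matrix.SpecialLinearGroup.coe_pow, ← hc]
    rfl
  · rintro ⟨c, hc⟩
    have h2 : ((g ^ m : Matrix.SpecialLinearGroup (Fin n) F) : Matrix (Fin n) (Fin n) F) =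
        Matrix.scalar (Fin n) c := by
      rw [Matrix.SpecialLinearGroup.coe_pow, hc]
      rfl
    refine ⟨c, ?_, h2.symm⟩
    have h3 := (g ^ m).2
    rw [h2] at h3
    simpa using h3

theorem exists_end_of_psl {F : Type*} [Field F] {n : ℕ}
    (x : Matrix.ProjectiveSpecialLinearGroup (Fin n) F) :
    ∃ g : End F (Fin n → F), LinearMap.det g = 1 ∧ ∀ m, x ^ m = 1 ↔ ScPow F g m := by
  obtain ⟨g, rfl⟩ := QuotientGroup.mk_surjective x
  refine ⟨Matrix.toLinAlgEquiv' (g : Matrix (Fin n) (Fin n) F), ?_, fun m => ?_⟩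
  · exact (LinearMap.det_toLin' _).trans g.2
  · rw [psl_pow_eq_one_iff g m]
    exact (scPow_of_injective (Matrix.toLinAlgEquiv' (R := F) (n := Fin n)).toAlgHom
      (Matrix.toLinAlgEquiv' (R := F) (n := Fin n)).injective).symm

theorem exists_psl_of_end {F V : Type*} [Field F] [AddCommGroup V] [Module F V]
    [FiniteDimensional F V] {n : ℕ} (hn : finrank F V = n) (g : End F V)
    (hg : LinearMap.det g = 1) :
    ∃ x : Matrix.ProjectiveSpecialLinearGroup (Fin n) F, ∀ m, x ^ m = 1 ↔ ScPow F g m := by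
  let b := finBasisOfFinrankEq F V hn
  have hdet : (LinearMap.toMatrixAlgEquiv b g).det = 1 := by
    rw [← hg]
    exact LinearMap.det_toMatrix b g
  obtain ⟨M, hM⟩ : ∃ M : Matrix.SpecialLinearGroup (Fin n) F,
      (M : Matrix (Fin n) (Fin n) F) = LinearMap.toMatrixAlgEquiv b g := ⟨⟨_, hdet⟩, rfl⟩
  refine ⟨QuotientGroup.mk M, fun m => ?_⟩
  rw [psl_pow_eq_one_iff, hM]
  exact scPow_of_injective (LinearMap.toMatrixAlgEquiv b).toAlgHom
    (LinearMap.toMatrixAlgEquiv b).injective

/-- The order of an element of `PSL_n(F)` divides the order of another one if all scalar powers of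
the first endomorphism are scalar powers of the second one. -/
theorem orderOf_dvd_of_scPow {F V W : Type*} [Field F] [AddCommGroup V] [Module F V]
    [AddCommGroup W] [Module F W] {G H : Type*} [Group G] [Group H]
    {x : G} {y : H} {g : End F V} {h : End F W}
    (hx : ∀ m, x ^ m = 1 ↔ ScPow F g m) (hy : ∀ m, y ^ m = 1 ↔ ScPow F h m)
    (hgh : ∀ m, ScPow F h m → ScPow F g m) : orderOf x ∣ orderOf y :=
  orderOf_dvd_of_pow_eq_one ((hx _).2 (hgh _ ((hy _).1 (pow_orderOf_eq_one y))))

end Cfsg.Agent.H159
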