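import Mathlib
set_option linter.all false

/-!
Orders of elements in direct powers: the reduction of `ω(G³ × Z_r^m) = ω(G³)` and
`ω(G² × Z_r^m) = ω(G²)` to statements about divisibility of orders in `G`.
-/

set_option autoImplicit false

namespace Cfsg.Agent.H159

/-- In a finite group, if `m` divides the order of `x` then `m` is the order of a power of `x`. -/
theorem exists_orderOf_eq {G : Type*} [Group G] [Finite G] (x : G) {m : ℕ} (h : m ∣ orderOf x) :
    ∃ y : G, orderOf y = m := by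
  obtain ⟨k, hk⟩ := h
  have hpos := orderOf_pos x
  have hk0 : k ≠ 0 := by
    rintro rfl
    rw [Nat.mul_zero] at hk
    omega
  refine ⟨x ^ k, ?_⟩
  rw [orderOf_pow' x hk0, hk, Nat.gcd_eq_right (Dvd.intro_left m rfl),
    Nat.mul_div_cancel _ (Nat.pos_of_ne_zero hk0)]

theorem orderOf_prod3 {A B C : Type*} [Monoid A] [Monoid B] [Monoid C] (x : A × B × C) :
    orderOf x = Nat.lcm (orderOf x.1) (Nat.lcm (orderOf x.2.1) (orderOf x.2.2)) := by
  rw [Prod.orderOf, Prod.orderOf]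

theorem orderOf_elem_dvd (r m : ℕ) (t : Multiplicative (Fin m → ZMod r)) : orderOf t ∣ r := by
  rw [orderOf_dvd_iff_pow_eq_one]
  apply Multiplicative.toAdd.injective
  funext i
  simp

/-- **The cube criterion.** -/
theorem cube_eq {G : Type*} [Group G] [Finite G] (r m : ℕ)
    (h : ∀ x y z : G, ∃ x' y' z' : G,
      Nat.lcm (Nat.lcm (orderOf x) (Nat.lcm (orderOf y) (orderOf z))) r ∣
        Nat.lcm (orderOf x') (Nat.lcm (orderOf y') (orderOf z'))) :
    Set.range (orderOf : G × G × G × Multiplicative (Fin m → ZMod r) → ℕ) =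
      Set.range (orderOf : G × G × G → ℕ) := by
  apply Set.Subset.antisymm
  · rintro _ ⟨⟨x, y, z, t⟩, rfl⟩
    obtain ⟨x', y', z', h'⟩ := h x y z
    obtain ⟨w, hw⟩ := exists_orderOf_eq (G := G × G × G) (x', y', z')
      (m := orderOf ((x, y, z, t) : G × G × G × Multiplicative (Fin m → ZMod r))) (by
        rw [orderOf_prod3 (x', y', z')]
        refine dvd_trans ?_ h'
        rw [Prod.orderOf, Prod.orderOf, Prod.orderOf]
        have ht := orderOf_elem_dvd r m t
        refine Nat.lcm_dvd ?_ (Nat.lcm_dvd ?_ (Nat.lcm_dvd ?_ ?_))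
        · exact (Nat.dvd_lcm_left _ _).trans (Nat.dvd_lcm_left _ _)
        · exact ((Nat.dvd_lcm_left _ _).trans (Nat.dvd_lcm_right _ _)).trans (Nat.dvd_lcm_left _ _)
        · exact ((Nat.dvd_lcm_right _ _).trans (Nat.dvd_lcm_right _ _)).trans (Nat.dvd_lcm_left _ _)
        · exact ht.trans (Nat.dvd_lcm_right _ _))
    exact ⟨w, hw⟩
  · rintro _ ⟨⟨x, y, z⟩, rfl⟩
    refine ⟨(x, y, z, 1), ?_⟩
    rw [Prod.orderOf, Prod.orderOf, Prod.orderOf, Prod.orderOf, Prod.orderOf]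
    simp

/-- **The square criterion.** -/
theorem square_eq {G : Type*} [Group G] [Finite G] (r m : ℕ)
    (h : ∀ x y : G, ∃ x' y' : G,
      Nat.lcm (Nat.lcm (orderOf x) (orderOf y)) r ∣ Nat.lcm (orderOf x') (orderOf y')) :
    Set.range (orderOf : G × G × Multiplicative (Fin m → ZMod r) → ℕ) =
      Set.range (orderOf : G × G → ℕ) := by
  apply Set.Subset.antisymm
  · rintro _ ⟨⟨x, y, t⟩, rfl⟩
    obtain ⟨x', y', h'⟩ := h x y
    obtain ⟨w, hw⟩ := exists_orderOf_eq (G := G × G) (x', y')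
      (m := orderOf ((x, y, t) : G × G × Multiplicative (Fin m → ZMod r))) (by
        rw [Prod.orderOf (x', y')]
        refine dvd_trans ?_ h'
        rw [Prod.orderOf, Prod.orderOf]
        have ht := orderOf_elem_dvd r m t
        refine Nat.lcm_dvd ?_ (Nat.lcm_dvd ?_ ?_)
        · exact (Nat.dvd_lcm_left _ _).trans (Nat.dvd_lcm_left _ _)
        · exact (Nat.dvd_lcm_right _ _).trans (Nat.dvd_lcm_left _ _)
        · exact ht.trans (Nat.dvd_lcm_right _ _))
    exact ⟨w, hw⟩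
  · rintro _ ⟨⟨x, y⟩, rfl⟩
    refine ⟨(x, y, 1), ?_⟩
    rw [Prod.orderOf, Prod.orderOf, Prod.orderOf]
    simp

/-- Criterion used for the linear and unitary groups: every element either has order dividing that of
an element of order divisible by `r`, or has order dividing `s * P`. -/
theorem both_of {G : Type*} [Group G] [Finite G] (r m s P : ℕ) (hsP : Nat.Coprime s P)
    (h1 : ∀ x : G, (∃ y : G, orderOf x ∣ orderOf y ∧ r ∣ orderOf y) ∨ orderOf x ∣ s * P)
    (h2 : ∃ a : G, s ∣ orderOf a) (h3 : ∃ b : G, P ∣ orderOf b) (h4 : ∃ c : G, r ∣ orderOf c) :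
    Set.range (orderOf : G × G × G × Multiplicative (Fin m → ZMod r) → ℕ) =
      Set.range (orderOf : G × G × G → ℕ) ∧
    ((∃ b : G, P ∣ orderOf b ∧ r ∣ orderOf b) →
      Set.range (orderOf : G × G × Multiplicative (Fin m → ZMod r) → ℕ) =
        Set.range (orderOf : G × G → ℕ)) := by
  obtain ⟨a, ha⟩ := h2
  obtain ⟨b, hb⟩ := h3
  obtain ⟨c, hc⟩ := h4
  constructor
  · apply cube_eq r m
    intro x y z
    rcases h1 x with ⟨x', hx1, hx2⟩ | hx
    · refine ⟨x', y, z, Nat.lcm_dvd (Nat.lcm_dvd ?_ ?_) ?_⟩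
      · exact hx1.trans (Nat.dvd_lcm_left _ _)
      · exact Nat.dvd_lcm_right _ _
      · exact hx2.trans (Nat.dvd_lcm_left _ _)
    rcases h1 y with ⟨y', hy1, hy2⟩ | hy
    · refine ⟨x, y', z, Nat.lcm_dvd (Nat.lcm_dvd ?_ (Nat.lcm_dvd ?_ ?_)) ?_⟩
      · exact (Nat.dvd_lcm_left _ _)
      · exact (hy1.trans (Nat.dvd_lcm_left _ _)).trans (Nat.dvd_lcm_right _ _)
      · exact (Nat.dvd_lcm_right _ _).trans (Nat.dvd_lcm_right _ _)
      · exact (hy2.trans (Nat.dvd_lcm_left _ _)).trans (Nat.dvd_lcm_right _ _)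
    rcases h1 z with ⟨z', hz1, hz2⟩ | hz
    · refine ⟨x, y, z', Nat.lcm_dvd (Nat.lcm_dvd ?_ (Nat.lcm_dvd ?_ ?_)) ?_⟩
      · exact (Nat.dvd_lcm_left _ _)
      · exact (Nat.dvd_lcm_left _ _).trans (Nat.dvd_lcm_right _ _)
      · exact (hz1.trans (Nat.dvd_lcm_right _ _)).trans (Nat.dvd_lcm_right _ _)
      · exact (hz2.trans (Nat.dvd_lcm_right _ _)).trans (Nat.dvd_lcm_right _ _)
    have key : s * P ∣ Nat.lcm (orderOf a) (Nat.lcm (orderOf b) (orderOf c)) := by
      apply hsP.mul_dvd_of_dvd_of_dvd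
      · exact ha.trans (Nat.dvd_lcm_left _ _)
      · exact (hb.trans (Nat.dvd_lcm_left _ _)).trans (Nat.dvd_lcm_right _ _)
    refine ⟨a, b, c, Nat.lcm_dvd (Nat.lcm_dvd ?_ (Nat.lcm_dvd ?_ ?_)) ?_⟩
    · exact hx.trans key
    · exact hy.trans key
    · exact hz.trans key
    · exact (hc.trans (Nat.dvd_lcm_right _ _)).trans (Nat.dvd_lcm_right _ _)
  · rintro ⟨d, hd1, hd2⟩
    apply square_eq r m
    intro x y
    rcases h1 x with ⟨x', hx1, hx2⟩ | hx
    · refine ⟨x', y, Nat.lcm_dvd (Nat.lcm_dvd ?_ ?_) ?_⟩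
      · exact hx1.trans (Nat.dvd_lcm_left _ _)
      · exact Nat.dvd_lcm_right _ _
      · exact hx2.trans (Nat.dvd_lcm_left _ _)
    rcases h1 y with ⟨y', hy1, hy2⟩ | hy
    · refine ⟨x, y', Nat.lcm_dvd (Nat.lcm_dvd ?_ ?_) ?_⟩
      · exact (Nat.dvd_lcm_left _ _)
      · exact (hy1.trans (Nat.dvd_lcm_right _ _))
      · exact (hy2.trans (Nat.dvd_lcm_right _ _))
    have key : s * P ∣ Nat.lcm (orderOf a) (orderOf d) := by
      apply hsP.mul_dvd_of_dvd_of_dvd
      · exact ha.trans (Nat.dvd_lcm_left _ _)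
      · exact hd1.trans (Nat.dvd_lcm_right _ _)
    refine ⟨a, d, Nat.lcm_dvd (Nat.lcm_dvd ?_ ?_) ?_⟩
    · exact hx.trans key
    · exact hy.trans key
    · exact hd2.trans (Nat.dvd_lcm_right _ _)

end Cfsg.Agent.H159
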