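import Cfsg.Agent.H159.AlgUnits
set_option linter.all false

-- part: H159/PslTypes
section
/-!
Orders of elements of `PSL_n(q)`: multiplying by an element of prime order `r ∣ q - 1`, `r ∤ n`,
when the element commutes with an idempotent; elements whose minimal polynomial is a prime power
of degree `n`.
-/

set_option autoImplicit false

namespace Cfsg.Agent.H159

open Module Polynomial

/-- Elements of an extension fixed by the `q`-power map are in the base field. -/
theorem mem_range_of_pow_card {F K : Type*} [Field F] [Fintype F] [Field K] [Algebra F K] {x : K}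
    (hx : x ^ Fintype.card F = x) : ∃ c : F, algebraMap F K c = x := by
  classical
  have h1 : (X ^ Fintype.card F - X : F[X]) = ∏ c : F, (X - C c) := by
    have h2 : Multiset.card (X ^ Fintype.card F - X : F[X]).roots =
        (X ^ Fintype.card F - X : F[X]).natDegree := by
      rw [FiniteField.roots_X_pow_card_sub_X, FiniteField.X_pow_card_sub_X_natDegree_eq F
        Fintype.one_lt_card]
      rfl
    have hm : (X ^ Fintype.card F - X : F[X]).Monic :=
      monic_X_pow_sub (by rw [degree_X]; exact_mod_cast Fintype.one_lt_card)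
    rw [← prod_multiset_X_sub_C_of_monic_of_roots_card_eq hm h2,
      FiniteField.roots_X_pow_card_sub_X]
    rfl
  have h3 := congrArg (aeval x) h1
  rw [map_prod, map_sub, map_pow, aeval_X, hx, sub_self, eq_comm, Finset.prod_eq_zero_iff] at h3
  obtain ⟨c, -, hc⟩ := h3
  refine ⟨c, ?_⟩
  rw [map_sub, aeval_X, aeval_C, sub_eq_zero] at hc
  exact hc.symm

variable {F : Type*} [Field F] [Fintype F]

/-- A primitive `r`-th root of unity when `r ∣ q - 1`. -/
theorem exists_root_of_unity {r : ℕ} (hrq : r ∣ Fintype.card F - 1) :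
    ∃ ζ : F, IsPrimitiveRoot ζ r := by
  obtain ⟨a, ha⟩ := IsCyclic.exists_generator (α := Fˣ)
  have ho : orderOf a = Fintype.card F - 1 := by
    rw [orderOf_eq_card_of_forall_mem_zpowers ha, Nat.card_units, Nat.card_eq_fintype_card]
  obtain ⟨b, hb⟩ : ∃ b : Fˣ, orderOf b = r := by
    obtain ⟨k, hk⟩ := hrq
    have hpos : 0 < Fintype.card F - 1 := by
      have := Fintype.one_lt_card (α := F); omega
    have hk0 : k ≠ 0 := by rintro rfl; simp at hk; omega
    refine ⟨a ^ k, ?_⟩
    rw [orderOf_pow' a hk0, ho, hk, Nat.gcd_eq_right (Dvd.intro_left r rfl),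
      Nat.mul_div_cancel _ (Nat.pos_of_ne_zero hk0)]
  refine ⟨(b : F), ?_⟩
  rw [IsPrimitiveRoot.coe_units_iff, ← hb]
  exact IsPrimitiveRoot.orderOf b

/-- **Adjoining `r`.** An element commuting with a proper idempotent can be multiplied by an element
of order `r`. -/
theorem exists_mul_r {V : Type*} [AddCommGroup V] [Module F V] [FiniteDimensional F V] {n r : ℕ}
    (hn : finrank F V = n) (hr : r.Prime) (hrq : r ∣ Fintype.card F - 1) (hrn : ¬ r ∣ n)
    (h e : End F V) (hdet : LinearMap.det h = 1) (hee : e * e = e) (he0 : e ≠ 0) (he1 : e ≠ 1)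
    (heh : e * h = h * e) :
    ∃ y : Matrix.ProjectiveSpecialLinearGroup (Fin n) F, (∀ m, y ^ m = 1 → ScPow F h m) ∧
      r ∣ orderOf y := by
  have hVnt : Nontrivial (End F V) := ⟨⟨e, 0, he0⟩⟩
  obtain ⟨ζ, hζ⟩ := exists_root_of_unity (F := F) hrq
  obtain ⟨x, hx⟩ := exists_psl_of_end hn h hdet
  by_cases hrx : r ∣ orderOf x
  · exact ⟨x, fun m hm => (hx m).1 hm, hrx⟩
  -- the element `e + ζ (1 - e)`
  have key : ∀ k : ℕ, (e + ζ • (1 - e)) ^ k = e + ζ ^ k • (1 - e) := by
    intro k
    induction k with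
    | zero => simp
    | succ k ih =>
      rw [pow_succ, ih, mul_add, add_mul, add_mul]
      have h1 : e * (ζ • (1 - e)) = 0 := by
        rw [mul_smul_comm, mul_sub, mul_one, hee, sub_self, smul_zero]
      have h2 : (ζ ^ k • (1 - e)) * e = 0 := by
        rw [smul_mul_assoc, sub_mul, one_mul, hee, sub_self, smul_zero]
      have h3 : (1 - e) * (1 - e) = 1 - e := by
        rw [sub_mul, mul_sub, mul_sub, hee]; simp
      rw [h1, h2, hee, smul_mul_smul_comm, h3, pow_succ]
      simp
  have hr1 : (e + ζ • (1 - e)) ^ r = 1 := by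
    rw [key, hζ.pow_eq_one]; simp
  have hrne : NeZero r := ⟨hr.ne_zero⟩
  obtain ⟨j, -, hj⟩ := hζ.eq_pow_of_pow_eq_one (ξ := LinearMap.det (e + ζ • (1 - e))) (by
    rw [← map_pow, hr1, map_one])
  -- adjust by a scalar
  have hcop : Nat.Coprime n r := ((Nat.Prime.coprime_iff_not_dvd hr).2 hrn).symm
  obtain ⟨i, hi⟩ : ∃ i : ℕ, r ∣ i * n + j := by
    have h1 : IsUnit (n : ZMod r) := (ZMod.isUnit_iff_coprime n r).2 hcop
    obtain ⟨u, hu⟩ := h1
    refine ⟨(-(j : ZMod r) * ((u⁻¹ : (ZMod r)ˣ) : ZMod r)).val, ?_⟩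
    rw [← ZMod.natCast_eq_zero_iff, Nat.cast_add, Nat.cast_mul, ZMod.natCast_val, ZMod.cast_id,
      ← hu, mul_assoc, Units.inv_mul, mul_one, neg_add_cancel]
  set t : End F V := ζ ^ i • (e + ζ • (1 - e)) with ht
  have htr : t ^ r = 1 := by
    rw [ht, _root_.smul_pow, hr1, ← pow_mul, mul_comm i r, pow_mul, hζ.pow_eq_one]; simp
  have htdet : LinearMap.det t = 1 := by
    rw [ht, LinearMap.det_smul, ← hj, hn, ← pow_mul, ← pow_add]
    obtain ⟨k, hk⟩ := hi
    rw [hk, pow_mul, hζ.pow_eq_one, one_pow]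
  have htsc : ∀ k, ScPow F t k → r ∣ k := by
    rintro k ⟨c, hc⟩
    rw [ht, _root_.smul_pow, key, Algebra.algebraMap_eq_smul_one] at hc
    have h1 := congrArg (fun f => e * f) hc
    have h2 := congrArg (fun f => (1 - e) * f) hc
    have h3 : (1 - e) * (1 - e) = 1 - e := by
      rw [sub_mul, mul_sub, mul_sub, hee]; simp
    have h4 : (1 - e) * e = 0 := by rw [sub_mul, one_mul, hee, sub_self]
    have h5 : e * (1 - e) = 0 := by rw [mul_sub, mul_one, hee, sub_self]
    simp only [mul_smul_comm, mul_add, hee, h5, smul_zero, add_zero, mul_one] at h1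
    simp only [mul_smul_comm, mul_add, h3, h4, smul_zero, zero_add, mul_one] at h2
    have h6 : (ζ ^ i) ^ k = c := by
      have h7 : ((ζ ^ i) ^ k - c) • e = 0 := by rw [sub_smul, h1, sub_self]
      rcases smul_eq_zero.1 h7 with h8 | h8
      · exact sub_eq_zero.1 h8
      · exact absurd h8 he0
    have hne : (1 - e) ≠ 0 := fun h => he1 (sub_eq_zero.1 h).symm
    have h9 : (ζ ^ i) ^ k * ζ ^ k = c := by
      have h7 : ((ζ ^ i) ^ k * ζ ^ k - c) • (1 - e) = 0 := by
        rw [sub_smul, mul_smul, h2, sub_self]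
      rcases smul_eq_zero.1 h7 with h8 | h8
      · exact sub_eq_zero.1 h8
      · exact absurd h8 hne
    have hζ0 : ζ ≠ 0 := hζ.ne_zero hr.ne_zero
    rw [← h6] at h9
    have h10 : ζ ^ k = 1 := mul_left_cancel₀ (pow_ne_zero k (pow_ne_zero i hζ0)) (by rw [h9, mul_one])
    exact (hζ.pow_eq_one_iff_dvd k).1 h10
  have hcomm : Commute h t := by
    rw [ht]
    have hce : Commute h e := heh.symm
    exact ((hce.add_right (((Commute.one_right h).sub_right hce).smul_right ζ)).smul_right (ζ ^ i))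
  obtain ⟨y, hy⟩ := exists_psl_of_end hn (h * t) (by rw [map_mul, hdet, htdet, mul_one])
  have hmain : ∀ m, y ^ m = 1 → ScPow F h m := by
    intro m hm
    obtain ⟨c, hc⟩ := (hy m).1 hm
    rw [hcomm.mul_pow] at hc
    have h1 : h ^ (m * r) = algebraMap F _ (c ^ r) := by
      have h2 : (h ^ m * t ^ m) ^ r = h ^ (m * r) := by
        rw [(hcomm.pow_pow m m).mul_pow, ← pow_mul, ← pow_mul, mul_comm m r, pow_mul t, htr]
        simp
      rw [← h2, hc, map_pow]
    have h3 : orderOf x ∣ m * r := orderOf_dvd_of_pow_eq_one ((hx _).2 ⟨_, h1⟩)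
    have h4 : orderOf x ∣ m :=
      (((Nat.Prime.coprime_iff_not_dvd hr).2 hrx).symm).dvd_of_dvd_mul_right h3
    exact (hx m).1 (orderOf_dvd_iff_pow_eq_one.1 h4)
  refine ⟨y, hmain, ?_⟩
  have h1 := hmain _ (pow_orderOf_eq_one y)
  obtain ⟨c, hc⟩ := (hy _).1 (pow_orderOf_eq_one y)
  obtain ⟨d, hd⟩ := h1
  apply htsc
  rw [hcomm.mul_pow, hd] at hc
  have hd0 : d ≠ 0 := by
    rintro rfl
    rw [map_zero] at hd
    have hu : IsUnit h := by
      rw [LinearMap.isUnit_iff_isUnit_det, hdet]; exact isUnit_one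
    exact (hu.pow (orderOf y)).ne_zero hd
  refine ⟨d⁻¹ * c, ?_⟩
  rw [map_mul, ← hc, ← mul_assoc, ← map_mul, inv_mul_cancel₀ hd0, map_one, one_mul]

end Cfsg.Agent.H159
end

-- part: H159/PslDich
section
/-!
Every element of `PSL_n(q)` either has order dividing the order of an element of order divisible
by `r` (`r ∣ q - 1` prime, `r ∤ n`), or its order divides
`(q^n-1)/((q-1) gcd(n,q-1)) * p^e`, `n ≤ p^e`.
-/

set_option autoImplicit false

namespace Cfsg.Agent.H159

open Module Polynomial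

universe u

variable {F : Type u} [Field F] [Fintype F]

theorem modEq_one_pow {q : ℕ} (hq : 1 ≤ q) (i : ℕ) : q ^ i ≡ 1 [MOD (q - 1)] := by
  have h : q ≡ 1 [MOD (q - 1)] := by
    have h1 : q = 1 + (q - 1) := by omega
    calc q = 1 + (q - 1) := h1
      _ ≡ 1 [MOD (q - 1)] := by simp [Nat.ModEq]
  simpa using h.pow i

/-- `gcd(n, q-1)` divides `(q^n-1)/(q-1)`. -/
theorem gcd_dvd_geom {q n : ℕ} (hq : 2 ≤ q) : Nat.gcd n (q - 1) ∣ (q ^ n - 1) / (q - 1) := by
  rw [← Nat.geomSum_eq hq]
  have h1 : (∑ i ∈ Finset.range n, q ^ i) ≡ ∑ i ∈ Finset.range n, 1 [MOD (q - 1)] :=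
    Nat.ModEq.sum fun i _ => modEq_one_pow (by omega) i
  rw [Finset.sum_const, Finset.card_range, smul_eq_mul, mul_one] at h1
  exact ((h1.of_dvd (Nat.gcd_dvd_right n (q - 1))).dvd_iff dvd_rfl).2 (Nat.gcd_dvd_left n (q - 1))

theorem geom_dvd (q n : ℕ) : q - 1 ∣ q ^ n - 1 := by
  simpa using Nat.sub_dvd_pow_sub_pow q 1 n

theorem geom_mul {q d k : ℕ} (hq : 2 ≤ q) (hd : 0 < d) :
    (q ^ (d * k) - 1) / (q - 1) = (q ^ d - 1) / (q - 1) * ∑ i ∈ Finset.range k, (q ^ d) ^ i := by
  have h2 : 2 ≤ q ^ d := le_trans hq (Nat.le_self_pow hd.ne' q)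
  rw [Nat.geomSum_eq h2, ← pow_mul]
  obtain ⟨b, hb⟩ := geom_dvd q d
  obtain ⟨c, hc⟩ := geom_dvd (q ^ d) k
  rw [← pow_mul] at hc
  rw [hc, Nat.mul_div_cancel_left c (by omega), hb, mul_assoc,
    Nat.mul_div_cancel_left _ (by omega), Nat.mul_div_cancel_left _ (by omega)]

/-- If `ν ^ k = 1` with `ν` in the base field then `ν ^ N = 1`, `N = Σ_{i<k} q^(d i)`. -/
theorem norm_pow_eq {d k : ℕ} {ν : F} (hν : ν ^ k = 1) :
    ν ^ (∑ i ∈ Finset.range k, (Fintype.card F ^ d) ^ i) = 1 := by
  rw [← Finset.prod_pow_eq_pow_sum]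
  rw [Finset.prod_congr rfl (g := fun _ => ν)]
  · rw [Finset.prod_const, Finset.card_range, hν]
  · intro i _
    rw [← pow_mul, FiniteField.pow_card_pow]

/-- The order of an element of `SL_n(q)` whose minimal polynomial is a power of an irreducible
polynomial and has degree `n`. -/
theorem primary_scPow {V : Type*} [AddCommGroup V] [Module F V] [FiniteDimensional F V] {n p e k : ℕ}
    [Fact p.Prime] [CharP F p] (hn : finrank F V = n) (he : n ≤ p ^ e)
    (g : End F V) (hdet : LinearMap.det g = 1) (f : F[X]) (hf : Irreducible f) (hmon : f.Monic)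
    (hmin : minpoly F g = f ^ k) (hdeg : (minpoly F g).natDegree = n) :
    ScPow F g ((Fintype.card F ^ n - 1) / (Fintype.card F - 1) / Nat.gcd n (Fintype.card F - 1) *
      p ^ e) := by
  set q := Fintype.card F with hq
  have hq2 : 2 ≤ q := Fintype.one_lt_card
  have : Fact (Irreducible f) := ⟨hf⟩
  have hfd : FiniteDimensional F (AdjoinRoot f) := (AdjoinRoot.powerBasis hf.ne_zero).finite
  have hfin : Finite (AdjoinRoot f) := Module.finite_of_finite F
  have hd : finrank F (AdjoinRoot f) = f.natDegree := by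
    rw [(AdjoinRoot.powerBasis hf.ne_zero).finrank, AdjoinRoot.powerBasis_dim]
  have hnd : n = f.natDegree * k := by
    rw [← hdeg, hmin, natDegree_pow, mul_comm]
  have hcard : Nat.card (AdjoinRoot f) = q ^ f.natDegree := by
    rw [Module.natCard_eq_pow_finrank (K := F), Nat.card_eq_fintype_card, hd]
  -- the norm of the root
  have hnorm : Algebra.norm F (AdjoinRoot.root f) = (-1) ^ f.natDegree * f.coeff 0 := by
    have h1 := Algebra.PowerBasis.norm_gen_eq_coeff_zero_minpoly (AdjoinRoot.powerBasis hf.ne_zero)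
    rw [AdjoinRoot.powerBasis_gen, AdjoinRoot.powerBasis_dim, AdjoinRoot.minpoly_root hf.ne_zero,
      hmon.leadingCoeff] at h1
    simpa using h1
  have hchar : LinearMap.charpoly g = f ^ k := by
    rw [← hmin]
    refine (eq_of_monic_of_dvd_of_natDegree_le (minpoly.monic (Algebra.IsIntegral.isIntegral g))
      (LinearMap.charpoly_monic g) (LinearMap.minpoly_dvd_charpoly g) ?_)
    rw [LinearMap.charpoly_natDegree, hn, hdeg]
  have hcoeff : (f ^ k).coeff 0 = (f.coeff 0) ^ k := by
    rw [coeff_zero_eq_eval_zero, coeff_zero_eq_eval_zero, eval_pow]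
  have hνk : Algebra.norm F (AdjoinRoot.root f) ^ k = 1 := by
    rw [hnorm, mul_pow, ← pow_mul, ← hnd, ← hcoeff, ← hchar]
    rw [LinearMap.det_eq_sign_charpoly_coeff, hn] at hdet
    exact hdet
  -- the root, to the power `(q^n-1)/(q-1)`
  have hx1 : (AdjoinRoot.root f) ^ ((q ^ n - 1) / (q - 1)) = 1 := by
    have h1 : (q ^ n - 1) / (q - 1) = (q ^ f.natDegree - 1) / (q - 1) *
        ∑ i ∈ Finset.range k, (q ^ f.natDegree) ^ i := by
      rw [hnd]
      exact geom_mul hq2 hf.natDegree_pos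
    rw [h1, pow_mul]
    have h2 := FiniteField.algebraMap_norm_eq_pow (K := F) (x := AdjoinRoot.root f)
    rw [hcard, Nat.card_eq_fintype_card, ← hq] at h2
    rw [← h2, ← map_pow, norm_pow_eq hνk, map_one]
  set s := (q ^ n - 1) / (q - 1) / Nat.gcd n (q - 1) with hs
  have hs2 : (q ^ n - 1) / (q - 1) = s * Nat.gcd n (q - 1) :=
    (Nat.div_mul_cancel (gcd_dvd_geom hq2)).symm
  have hx2 : ((AdjoinRoot.root f) ^ s) ^ (q - 1) = 1 := by
    obtain ⟨j, hj⟩ := Nat.gcd_dvd_right n (q - 1)
    rw [hj, ← pow_mul, ← mul_assoc, ← hs2, pow_mul, hx1, one_pow]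
  obtain ⟨c, hc⟩ := mem_range_of_pow_card (F := F) (x := (AdjoinRoot.root f) ^ s) (by
    rw [← hq, show q = (q - 1) + 1 by omega, pow_succ, hx2, one_mul])
  rw [AdjoinRoot.algebraMap_eq, ← AdjoinRoot.mk_C, ← AdjoinRoot.mk_X, ← map_pow,
    AdjoinRoot.mk_eq_mk, ← neg_sub, dvd_neg] at hc
  rw [scPow_iff_dvd]
  refine ⟨c ^ p ^ e, ?_⟩
  have hk : k ≤ p ^ e := by
    refine le_trans ?_ he
    rw [hnd]
    exact Nat.le_mul_of_pos_left k hf.natDegree_pos
  rw [hmin, pow_mul, C_pow, ← sub_pow_char_pow]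
  exact (pow_dvd_pow f hk).trans (pow_dvd_pow_of_dvd hc _)

/-- The root of the minimal polynomial of a unit is a unit. -/
theorem isUnit_root {V : Type*} [AddCommGroup V] [Module F V] [FiniteDimensional F V]
    {g : End F V} (hg : IsUnit g) : IsUnit (AdjoinRoot.root (minpoly F g)) := by
  have hV : Finite V := Module.finite_of_finite F
  have hE : Finite (End F V) := Finite.of_injective (fun f : End F V => (f : V → V))
    DFunLike.coe_injective
  obtain ⟨u, rfl⟩ := hg
  have hk : (u : End F V) ^ orderOf u = 1 := by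
    rw [← Units.val_pow_eq_pow_val, pow_orderOf_eq_one, Units.val_one]
  have hpos : 0 < orderOf u := orderOf_pos u
  have hroot : (AdjoinRoot.root (minpoly F (u : End F V))) ^ orderOf u = 1 := by
    rw [← AdjoinRoot.mk_X, ← map_pow, ← map_one (AdjoinRoot.mk _), AdjoinRoot.mk_eq_mk]
    apply minpoly.dvd
    simp [hk]
  exact IsUnit.of_pow_eq_one hroot hpos.ne'

omit [Fintype F] in
/-- A coprime factorisation of the minimal polynomial gives an idempotent. -/
theorem exists_idempotent {A : Type*} [Ring A] [Algebra F A] {g : A} (h0 : minpoly F g ≠ 0)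
    {a b : F[X]} (hab : minpoly F g = a * b) (hc : IsCoprime a b) (ha : ¬ IsUnit a)
    (hb : ¬ IsUnit b) :
    ∃ P : F[X], aeval g P * aeval g P = aeval g P ∧ aeval g P ≠ 0 ∧ aeval g P ≠ 1 := by
  obtain ⟨u, v, huv⟩ := hc
  have hprod : aeval g (a * b) = 0 := by rw [← hab, minpoly.aeval]
  refine ⟨u * a, ?_, ?_, ?_⟩
  · have h1 : u * a * (u * a) = u * a - u * v * (a * b) := by
      have : u * a = 1 - v * b := by rw [← huv]; ring
      calc u * a * (u * a) = u * a * (1 - v * b) := by rw [← this]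
        _ = _ := by ring
    rw [← map_mul, h1, map_sub, map_mul (aeval g) (u * v), hprod, mul_zero, sub_zero]
  · intro h
    have h1 := minpoly.dvd F g h
    rw [hab, mul_comm a b] at h1
    have ha0 : a ≠ 0 := by rintro rfl; rw [zero_mul] at hab; exact h0 hab
    have h2 : b ∣ u := (mul_dvd_mul_iff_right ha0).1 h1
    apply hb
    rw [isUnit_iff_dvd_one, ← huv]
    exact dvd_add (h2.mul_right a) (Dvd.intro_left v rfl)
  · intro h
    have h3 : aeval g (v * b) = 0 := by
      have : v * b = 1 - u * a := by rw [← huv]; ring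
      rw [this, map_sub, h, map_one, sub_self]
    have h1 := minpoly.dvd F g h3
    rw [hab] at h1
    have hb0 : b ≠ 0 := by rintro rfl; rw [mul_zero] at hab; exact h0 hab
    have h2 : a ∣ v := (mul_dvd_mul_iff_right hb0).1 h1
    apply ha
    rw [isUnit_iff_dvd_one, ← huv]
    exact dvd_add (Dvd.intro_left u rfl) (h2.mul_right b)

/-- **The dichotomy for `PSL_n(q)`.** -/
theorem psl_dich {n p e r : ℕ} [Fact p.Prime] [CharP F p] (he : n ≤ p ^ e)
    (hr : r.Prime) (hrq : r ∣ Fintype.card F - 1) (hrn : ¬ r ∣ n)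
    (x : Matrix.ProjectiveSpecialLinearGroup (Fin n) F) :
    (∃ y : Matrix.ProjectiveSpecialLinearGroup (Fin n) F, orderOf x ∣ orderOf y ∧ r ∣ orderOf y) ∨
    orderOf x ∣ (Fintype.card F ^ n - 1) / (Fintype.card F - 1) / Nat.gcd n (Fintype.card F - 1) *
      p ^ e := by
  obtain ⟨g, hdet, hx⟩ := exists_end_of_psl x
  have hfin : finrank F (Fin n → F) = n := by simp
  -- reduction to idempotents
  have red : ∀ (W : Type u) [AddCommGroup W] [Module F W] [FiniteDimensional F W]
      (h e : End F W), finrank F W = n → LinearMap.det h = 1 → e * e = e → e ≠ 0 → e ≠ 1 →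
      e * h = h * e → (∀ m, ScPow F h m → ScPow F g m) →
      ∃ y : Matrix.ProjectiveSpecialLinearGroup (Fin n) F, orderOf x ∣ orderOf y ∧ r ∣ orderOf y := by
    intro W _ _ _ h e hW hdet hee he0 he1 heh hsc
    obtain ⟨y, hy1, hy2⟩ := exists_mul_r hW hr hrq hrn h e hdet hee he0 he1 heh
    refine ⟨y, ?_, hy2⟩
    exact orderOf_dvd_of_pow_eq_one ((hx _).2 (hsc _ (hy1 _ (pow_orderOf_eq_one y))))
  have hn0 : n ≠ 0 := by rintro rfl; simp at hrn
  have hnt : Nontrivial (Fin n → F) := by
    rw [← Module.finrank_pos_iff (R := F), hfin]; omega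
  have hmu0 : minpoly F g ≠ 0 := minpoly.ne_zero (Algebra.IsIntegral.isIntegral _)
  have hmon := minpoly.monic (Algebra.IsIntegral.isIntegral (R := F) g)
  have hle : (minpoly F g).natDegree ≤ n := by
    refine le_trans (Polynomial.natDegree_le_of_dvd (LinearMap.minpoly_dvd_charpoly _)
      (LinearMap.charpoly_monic _).ne_zero) ?_
    rw [LinearMap.charpoly_natDegree, hfin]
  have hunit : IsUnit g := by
    rw [LinearMap.isUnit_iff_isUnit_det, hdet]; exact isUnit_one
  rcases hle.lt_or_eq with hlt | heq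
  · -- the minimal polynomial has small degree
    left
    have hfd : FiniteDimensional F (AdjoinRoot (minpoly F g)) :=
      (AdjoinRoot.powerBasis hmu0).finite
    have hfr : finrank F (AdjoinRoot (minpoly F g)) < n := by
      rw [(AdjoinRoot.powerBasis hmu0).finrank, AdjoinRoot.powerBasis_dim]
      exact hlt
    have hntA : Nontrivial (AdjoinRoot (minpoly F g)) :=
      AdjoinRoot.nontrivial _ (minpoly.degree_pos (Algebra.IsIntegral.isIntegral _)).ne'
    obtain ⟨a, ha⟩ := isUnit_root hunit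
    obtain ⟨h, e, h1, h2, h3, h4, h5, h6, h7⟩ := exists_end_of_alg hfr a
    refine red _ h e h7 h1 h2 h3 h4 h5 fun m hm => ?_
    rw [scPow_iff_root, ← ha]
    exact h6 m hm
  · -- the minimal polynomial has degree `n`
    have hnu : ¬ IsUnit (minpoly F g) := not_isUnit_of_natDegree_pos _ (by omega)
    obtain ⟨f, hfmon, hf, hdvd⟩ := Polynomial.exists_monic_irreducible_factor (minpoly F g) hnu
    obtain ⟨k, b, hb, hfb⟩ := WfDvdMonoid.max_power_factor hmu0 hf
    by_cases hbu : IsUnit b
    · right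
      have hmin : minpoly F g = f ^ k :=
        eq_of_monic_of_associated hmon (hfmon.pow k)
          (by rw [hfb]; exact (associated_mul_unit_right (f ^ k) b hbu).symm)
      exact orderOf_dvd_of_pow_eq_one ((hx _).2
        (primary_scPow hfin he g hdet f hf hfmon hmin heq))
    · left
      have hk : k ≠ 0 := by
        rintro rfl
        rw [pow_zero, one_mul] at hfb
        rw [hfb] at hdvd
        exact hb hdvd
      have hcop : IsCoprime (f ^ k) b := ((hf.coprime_iff_not_dvd).2 hb).pow_left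
      obtain ⟨P, h1, h2, h3⟩ := exists_idempotent hmu0 hfb hcop
        (fun h => hf.not_isUnit ((isUnit_pow_iff hk).1 h)) hbu
      refine red _ g (aeval g P) hfin hdet h1 h2 h3 ?_ fun m hm => hm
      have h4 := congrArg (aeval g) (mul_comm P X)
      rwa [map_mul, map_mul, aeval_X] at h4

end Cfsg.Agent.H159
end
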