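import Cfsg.Agent.H159.SpEnd
import Cfsg.Agent.H159.PslDich
import Cfsg.Agent.S2591
set_option linter.all false

-- part: H159/SpCon
section
/-!
Constructions of elements of symplectic groups: cyclic tori of orders `q^m - 1`, `q^m + 1`,
regular unipotents, and direct sums.
-/

set_option autoImplicit false

namespace Cfsg.Agent.H159

open Module LinearMap

/-- A non-degenerate alternating space of dimension `2m` with an isometry. -/
structure SpSpace (F : Type*) [Field F] (m : ℕ) (V : Type*) [AddCommGroup V] [Module F V]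
    (B : LinearMap.BilinForm F V) (g : End F V) : Prop where
  fin : FiniteDimensional F V
  alt : B.IsAlt
  nondeg : B.Nondegenerate
  dim : finrank F V = 2 * m
  isom : Isom B g

theorem Isom.pow {F V : Type*} [Field F] [AddCommGroup V] [Module F V]
    {B : LinearMap.BilinForm F V} {g : End F V} (hg : Isom B g) (k : ℕ) : Isom B (g ^ k) := by
  induction k with
  | zero => intro u v; simp
  | succ k ih => intro u v; rw [pow_succ, Module.End.mul_apply, Module.End.mul_apply, ih, hg]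

theorem Isom.neg {F V : Type*} [Field F] [AddCommGroup V] [Module F V]
    {B : LinearMap.BilinForm F V} {g : End F V} (hg : Isom B g) : Isom B (-g) := by
  intro u v; simp [hg u v]

/-- A scalar isometry has `c * c = 1`. -/
theorem SpSpace.scalar_sq {F : Type*} [Field F] {m : ℕ} {V : Type*} [AddCommGroup V] [Module F V]
    {B : LinearMap.BilinForm F V} {g : End F V} (h : SpSpace F m V B g) (hm : 1 ≤ m) {k : ℕ} {c : F}
    (hc : g ^ k = algebraMap F _ c) : c * c = 1 := by
  have := h.fin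
  have hnt : Nontrivial V := by
    rw [← Module.finrank_pos_iff (R := F), h.dim]; omega
  obtain ⟨u, hu⟩ := exists_ne (0 : V)
  obtain ⟨v, hv⟩ : ∃ v, B u v ≠ 0 := by
    by_contra hcon
    push Not at hcon
    exact hu (h.nondeg.1 u hcon)
  have h1 := h.isom.pow k u v
  rw [hc] at h1
  simp only [Module.algebraMap_end_apply, map_smul, LinearMap.smul_apply, smul_eq_mul] at h1
  have h2 : (c * c - 1) * B u v = 0 := by
    rw [sub_mul, one_mul, mul_assoc, h1, sub_self]
  exact sub_eq_zero.1 ((mul_eq_zero.1 h2).resolve_right hv)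

/-- Direct sums. -/
theorem SpSpace.prod {F : Type*} [Field F] {m₁ m₂ : ℕ} {V₁ V₂ : Type*} [AddCommGroup V₁]
    [Module F V₁] [AddCommGroup V₂] [Module F V₂] {B₁ : LinearMap.BilinForm F V₁}
    {B₂ : LinearMap.BilinForm F V₂} {g₁ : End F V₁} {g₂ : End F V₂}
    (h₁ : SpSpace F m₁ V₁ B₁ g₁) (h₂ : SpSpace F m₂ V₂ B₂ g₂) :
    SpSpace F (m₁ + m₂) (V₁ × V₂)
      (B₁.comp (LinearMap.fst F V₁ V₂) (LinearMap.fst F V₁ V₂) +
        B₂.comp (LinearMap.snd F V₁ V₂) (LinearMap.snd F V₁ V₂)) (g₁.prodMap g₂) := by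
  have := h₁.fin
  have := h₂.fin
  refine ⟨inferInstance, ?_, ?_, ?_, ?_⟩
  · intro u
    simp [h₁.alt u.1, h₂.alt u.2]
  · constructor
    · intro u hu
      refine Prod.ext (h₁.nondeg.1 _ fun v => ?_) (h₂.nondeg.1 _ fun v => ?_)
      · simpa using hu (v, 0)
      · simpa using hu (0, v)
    · intro u hu
      refine Prod.ext (h₁.nondeg.2 _ fun v => ?_) (h₂.nondeg.2 _ fun v => ?_)
      · simpa using hu (v, 0)
      · simpa using hu (0, v)
  · rw [Module.finrank_prod, h₁.dim, h₂.dim]; ring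
  · intro u v
    simp [h₁.isom u.1 v.1, h₂.isom u.2 v.2]

variable {F : Type*} [Field F] [Fintype F]

/-- The split torus. -/
theorem exists_split_torus (p m s : ℕ) [Fact p.Prime] [CharP F p] (hm : 1 ≤ m)
    (hs : s ∣ Fintype.card F ^ m - 1) :
    ∃ (V : Type) (_ : AddCommGroup V) (_ : Module F V) (B : LinearMap.BilinForm F V) (g : End F V),
      SpSpace F m V B g ∧ ∀ k, g ^ k = 1 ↔ s ∣ k := by
  obtain ⟨K, _, _, _, _, a, hK, ha, hcard⟩ := exists_field_gen F p m (by omega)
  have hq : 2 ≤ Fintype.card F := Fintype.one_lt_card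
  have hpos : 0 < Fintype.card F ^ m - 1 := by
    have : Fintype.card F ≤ Fintype.card F ^ m := Nat.le_self_pow (by omega) _
    omega
  obtain ⟨θ, hθ⟩ : ∃ θ : Kˣ, orderOf θ = s := by
    obtain ⟨t, ht⟩ := hs
    have ht0 : t ≠ 0 := by rintro rfl; simp at ht; omega
    refine ⟨a ^ t, ?_⟩
    rw [orderOf_pow' a ht0, ha, ht, Nat.gcd_eq_right (Dvd.intro_left s rfl),
      Nat.mul_div_cancel _ (Nat.pos_of_ne_zero ht0)]
  have hsep : Algebra.IsSeparable F K := inferInstance
  have htr := traceForm_nondegenerate F K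
  refine ⟨K × K, inferInstance, inferInstance,
    (Algebra.traceForm F K).comp (LinearMap.fst F K K) (LinearMap.snd F K K) -
      (Algebra.traceForm F K).comp (LinearMap.snd F K K) (LinearMap.fst F K K),
    LinearMap.prodMap (Algebra.lmul F K (θ : K)) (Algebra.lmul F K ((θ⁻¹ : Kˣ) : K)),
    ⟨inferInstance, ?_, ?_, ?_, ?_⟩, ?_⟩
  · intro u
    simp [Algebra.traceForm_apply, mul_comm]
  · constructor
    · intro u hu
      refine Prod.ext (htr.1 _ fun v => ?_) (htr.1 _ fun v => ?_)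
      · simpa using hu (0, v)
      · simpa using hu (v, 0)
    · intro u hu
      refine Prod.ext (htr.2 _ fun v => ?_) (htr.2 _ fun v => ?_)
      · simpa using hu (0, v)
      · simpa using hu (v, 0)
  · rw [Module.finrank_prod, hK]; ring
  · intro u v
    have h1 : ∀ x y : K, (θ : K) * x * (((θ⁻¹ : Kˣ) : K) * y) = x * y := by
      intro x y
      have : (θ : K) * ((θ⁻¹ : Kˣ) : K) = 1 := Units.mul_inv θ
      calc (θ : K) * x * (((θ⁻¹ : Kˣ) : K) * y) = ((θ : K) * ((θ⁻¹ : Kˣ) : K)) * (x * y) := by ring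
        _ = x * y := by rw [this, one_mul]
    have h2 : ∀ x y : K, ((θ⁻¹ : Kˣ) : K) * x * ((θ : K) * y) = x * y := by
      intro x y
      rw [mul_comm, h1, mul_comm]
    simp only [LinearMap.sub_apply, LinearMap.BilinForm.comp_apply, LinearMap.fst_apply,
      LinearMap.snd_apply, Algebra.traceForm_apply, LinearMap.prodMap_apply, Algebra.coe_lmul_eq_mul,
      LinearMap.mul_apply', h1, h2]
  · intro k
    rw [prodMap_pow', ← hθ]
    constructor
    · intro h
      rw [← map_pow] at h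
      have h1 := congrArg (fun f => (f (1, 0)).1) h
      simp only [LinearMap.prodMap_apply, Algebra.coe_lmul_eq_mul, LinearMap.mul_apply', mul_one,
        Module.End.one_apply] at h1
      rw [orderOf_dvd_iff_pow_eq_one]
      exact Units.ext (by simpa using h1)
    · intro h
      rw [orderOf_dvd_iff_pow_eq_one] at h
      have h1 : (θ : K) ^ k = 1 := by rw [← Units.val_pow_eq_pow_val, h, Units.val_one]
      have h2 : ((θ⁻¹ : Kˣ) : K) ^ k = 1 := by
        rw [← Units.val_pow_eq_pow_val, inv_pow, h, inv_one, Units.val_one]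
      rw [← map_pow, ← map_pow, h1, h2, map_one]
      ext <;> simp

/-- The non-split torus. -/
theorem exists_nonsplit_torus (p m s : ℕ) [Fact p.Prime] [CharP F p] (h2 : (2 : F) ≠ 0) (hm : 1 ≤ m)
    (hs : s ∣ Fintype.card F ^ m + 1) :
    ∃ (V : Type) (_ : AddCommGroup V) (_ : Module F V) (B : LinearMap.BilinForm F V) (g : End F V),
      SpSpace F m V B g ∧ ∀ k, g ^ k = 1 ↔ s ∣ k := by
  obtain ⟨K, _, _, _, _, a, hK, ha, hcard⟩ := exists_field_gen F p (2 * m) (by omega)
  have hq : 2 ≤ Fintype.card F := Fintype.one_lt_card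
  set Q := Fintype.card F ^ m with hQ
  have hQ2 : 2 ≤ Q := le_trans hq (Nat.le_self_pow (by omega) _)
  have hQQ : Fintype.card F ^ (2 * m) - 1 = (Q + 1) * (Q - 1) := by
    rw [mul_comm 2 m, pow_mul, ← hQ, ← Nat.sq_sub_sq, one_pow]
  rw [hQQ] at ha
  have hpos : 0 < (Q + 1) * (Q - 1) := Nat.mul_pos (by omega) (by omega)
  obtain ⟨θ, hθ⟩ : ∃ θ : Kˣ, orderOf θ = s := by
    obtain ⟨t, ht⟩ := hs
    have ht0 : t * (Q - 1) ≠ 0 := by
      rintro h0
      rw [ht, mul_assoc, h0, mul_zero] at hpos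
      exact lt_irrefl _ hpos
    refine ⟨a ^ (t * (Q - 1)), ?_⟩
    rw [orderOf_pow' a ht0, ha, ht, mul_assoc, Nat.gcd_eq_right (Dvd.intro_left s rfl),
      Nat.mul_div_cancel _ (Nat.pos_of_ne_zero ht0)]
  let τ : K ≃ₐ[F] K := (FiniteField.frobeniusAlgEquivOfAlgebraic F K) ^ m
  have hτ : ∀ z, τ z = z ^ Q := by
    intro z
    simp only [τ, AlgEquiv.coe_pow, FiniteField.coe_frobeniusAlgEquivOfAlgebraic, pow_iterate, hQ]
  have hfK := Fintype.ofFinite K
  have hττ : ∀ z, τ (τ z) = z := by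
    intro z
    have h1 : Fintype.card K = Q * Q := by
      rw [Fintype.card_eq_nat_card, hcard, mul_comm 2 m, pow_mul, ← hQ, sq]
    rw [hτ, hτ, ← pow_mul, ← h1, FiniteField.pow_card]
  obtain ⟨z, hz⟩ : ∃ z, τ z ≠ z := by
    refine ⟨(a : K), fun h => ?_⟩
    rw [hτ] at h
    have h1 : a ^ (Q - 1) = 1 := by
      apply Units.ext
      rw [Units.val_pow_eq_pow_val, Units.val_one]
      apply mul_right_cancel₀ (a.ne_zero)
      rw [← pow_succ, one_mul, show Q - 1 + 1 = Q by omega, h]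
    have h3 := orderOf_dvd_of_pow_eq_one h1
    rw [ha] at h3
    have h4 := Nat.le_of_dvd (by omega) h3
    have h5 : 2 * (Q - 1) ≤ (Q + 1) * (Q - 1) := Nat.mul_le_mul_right _ (by omega)
    omega
  set ε : K := z - τ z with hε
  have hε0 : ε ≠ 0 := fun h => hz (sub_eq_zero.1 h).symm
  have hτε : τ ε = - ε := by
    rw [hε, map_sub, hττ]; ring
  have hsep : Algebra.IsSeparable F K := inferInstance
  have htr := traceForm_nondegenerate F K
  have hQθ : ((θ : K)) * τ (θ : K) = 1 := by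
    rw [hτ, ← pow_succ', ← Units.val_pow_eq_pow_val]
    rw [← hθ, orderOf_dvd_iff_pow_eq_one] at hs
    rw [hs, Units.val_one]
  refine ⟨K, inferInstance, inferInstance,
    (Algebra.traceForm F K).comp (Algebra.lmul F K ε) (τ : K →ₗ[F] K),
    Algebra.lmul F K (θ : K), ⟨inferInstance, ?_, ?_, hK, ?_⟩, ?_⟩
  · intro u
    have h1 : Algebra.trace F K (ε * u * τ u) = - Algebra.trace F K (ε * u * τ u) := by
      conv_lhs => rw [← Algebra.trace_eq_of_algEquiv τ]
      rw [map_mul τ, map_mul τ, hτε, hττ, ← map_neg]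
      congr 1
      ring
    have h3 : (2 : F) * Algebra.trace F K (ε * u * τ u) = 0 := by
      rw [two_mul]
      nth_rewrite 1 [h1]
      exact neg_add_cancel _
    exact (mul_eq_zero.1 h3).resolve_left h2
  · constructor
    · intro u hu
      have h1 : ε * u = 0 := by
        apply htr.1
        intro v
        have := hu (τ v)
        simpa [hττ] using this
      exact (mul_eq_zero.1 h1).resolve_left hε0
    · intro v hv
      have h1 : τ v = 0 := by
        apply htr.2
        intro u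
        have := hv (ε⁻¹ * u)
        simpa [← mul_assoc, mul_inv_cancel₀ hε0] using this
      simpa using h1
  · intro u v
    show Algebra.trace F K (ε * ((θ : K) * u) * τ ((θ : K) * v)) = Algebra.trace F K (ε * u * τ v)
    rw [map_mul τ]
    congr 1
    calc ε * ((θ : K) * u) * (τ (θ : K) * τ v) = (θ : K) * τ (θ : K) * (ε * u * τ v) := by ring
      _ = ε * u * τ v := by rw [hQθ, one_mul]
  · intro k
    rw [← map_pow, ← hθ, orderOf_dvd_iff_pow_eq_one]
    constructor
    · intro h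
      have h1 := congrArg (fun f => f 1) h
      simp only [Algebra.coe_lmul_eq_mul, LinearMap.mul_apply', mul_one,
        Module.End.one_apply] at h1
      exact Units.ext (by simpa using h1)
    · intro h
      rw [← Units.val_pow_eq_pow_val, h, Units.val_one, map_one]

end Cfsg.Agent.H159
end

-- part: H159/SpOrd
section
/-!
Orders of elements of `PSp_{2n}(q)`, `q` odd: existence.
-/

set_option autoImplicit false

namespace Cfsg.Agent.H159

open Module LinearMap

variable {F : Type*} [Field F]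

theorem SpSpace.exists_psp {n : ℕ} {V : Type*} [AddCommGroup V] [Module F V]
    {B : LinearMap.BilinForm F V} {g : End F V} (h : SpSpace F n V B g) :
    ∃ x : Cfsg.PSp n F, ∀ m, x ^ m = 1 ↔ ScPow F g m := by
  have := h.fin
  exact exists_psp_of_end B h.alt h.nondeg h.dim g h.isom

/-- **Doubling.** An isometry of odd order modulo scalars commuting with a proper self-adjoint
idempotent gives an element of twice the order. -/
theorem SpSpace.exists_mul_two (h2 : (2 : F) ≠ 0) {n : ℕ} {V : Type*} [AddCommGroup V] [Module F V]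
    {B : LinearMap.BilinForm F V} {g e : End F V} (h : SpSpace F n V B g)
    {x : Cfsg.PSp n F} (hx : ∀ m, x ^ m = 1 ↔ ScPow F g m) (hodd : Odd (orderOf x))
    (hee : e * e = e) (he0 : e ≠ 0) (he1 : e ≠ 1) (heg : e * g = g * e)
    (hadj : ∀ u v, B (e u) v = B u (e v)) :
    ∃ y : Cfsg.PSp n F, 2 * orderOf x ∣ orderOf y := by
  have hfd := h.fin
  have hnt : Nontrivial (End F V) := ⟨⟨e, 0, he0⟩⟩
  set t : End F V := 1 - (2 : F) • e with ht
  have htt : t * t = 1 := by
    rw [ht, sub_mul, mul_sub, mul_sub, smul_mul_smul_comm, hee, one_mul, one_mul, mul_one]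
    rw [mul_smul, two_smul F ((2 : F) • e)]
    abel
  have htsc : ¬ ∃ c : F, t = algebraMap F _ c := by
    rintro ⟨c, hc⟩
    -- `2 e = 1 - c`
    have h3 : (2 : F) • e = algebraMap F (End F V) (1 - c) := by
      rw [map_sub, map_one, ← hc, ht]; abel
    have h4 : e = algebraMap F (End F V) ((2 : F)⁻¹ * (1 - c)) := by
      rw [map_mul, ← h3, Algebra.algebraMap_eq_smul_one, smul_mul_smul_comm, inv_mul_cancel₀ h2,
        one_mul, one_smul]
    set d : F := (2 : F)⁻¹ * (1 - c) with hd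
    rw [h4, ← map_mul] at hee
    have h5 : d * d = d := (algebraMap F (End F V)).injective hee
    rcases eq_or_ne d 0 with h6 | h6
    · exact he0 (by rw [h4, h6, map_zero])
    · exact he1 (by rw [h4, mul_left_cancel₀ h6 (by rw [h5, mul_one] : d * d = d * 1), map_one])
  have hcomm : Commute g t := by
    rw [ht]
    have hce : Commute g e := heg.symm
    exact (Commute.one_right g).sub_right (hce.smul_right 2)
  have htiso : Isom B t := by
    intro u v
    have h3 : B (e u) (e v) = B (e u) v := by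
      rw [← hadj (e u) v]
      have : e (e u) = e u := by
        rw [← Module.End.mul_apply, hee]
      rw [this]
    rw [ht]
    simp only [LinearMap.sub_apply, Module.End.one_apply, LinearMap.smul_apply, map_sub, map_smul,
      smul_eq_mul]
    rw [h3, ← hadj u v]
    ring
  have hspace : SpSpace F n V B (g * t) := by
    refine ⟨h.fin, h.alt, h.nondeg, h.dim, fun u v => ?_⟩
    rw [Module.End.mul_apply, Module.End.mul_apply, h.isom, htiso]
  obtain ⟨y, hy⟩ := hspace.exists_psp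
  refine ⟨y, ?_⟩
  obtain ⟨c, hc⟩ := (hy _).1 (pow_orderOf_eq_one y)
  rw [hcomm.mul_pow] at hc
  -- square
  have h3 : g ^ (orderOf y * 2) = algebraMap F _ (c ^ 2) := by
    have h4 : (g ^ orderOf y * t ^ orderOf y) ^ 2 = g ^ (orderOf y * 2) := by
      rw [(hcomm.pow_pow _ _).mul_pow, ← pow_mul, ← pow_mul, mul_comm (orderOf y) 2, pow_mul t, sq t,
        htt]
      simp
    rw [← h4, hc, map_pow]
  have h4 : orderOf x ∣ orderOf y * 2 := orderOf_dvd_of_pow_eq_one ((hx _).2 ⟨_, h3⟩)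
  have h5 : orderOf x ∣ orderOf y := (hodd.coprime_two_right).dvd_of_dvd_mul_right h4
  obtain ⟨d, hd⟩ := (hx _).1 (orderOf_dvd_iff_pow_eq_one.1 h5)
  have hd0 : d ≠ 0 := by
    rintro rfl
    rw [hd, map_zero, zero_mul] at hc
    have hc0 : c = 0 := by
      by_contra hne
      exact hne ((algebraMap F (End F V)).injective (by rw [← hc, map_zero]))
    rw [map_zero] at hd
    have h7 : ∀ k, t ^ (2 * k) = 1 := fun k => by rw [pow_mul, sq, htt, one_pow]
    -- `g` is injective
    have hinj : Function.Injective g := by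
      intro u v huv
      have h8 : g (u - v) = 0 := by rw [map_sub, huv, sub_self]
      have h9 : u - v = 0 := by
        apply h.nondeg.1
        intro w
        rw [← h.isom (u - v) w, h8, map_zero, LinearMap.zero_apply]
      exact sub_eq_zero.1 h9
    have h10 : Function.Injective (g ^ orderOf y : End F V) := by
      rw [Module.End.coe_pow]
      exact hinj.iterate _
    rw [hd] at h10
    obtain ⟨u, hu⟩ : ∃ u : V, u ≠ 0 := by
      by_contra hcon
      push Not at hcon
      exact he0 (LinearMap.ext fun u => by rw [hcon u, map_zero, map_zero])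
    exact hu (h10 (by simp))
  rw [hd] at hc
  have h6 : t ^ orderOf y = algebraMap F _ (d⁻¹ * c) := by
    rw [map_mul, ← hc, ← mul_assoc, ← map_mul, inv_mul_cancel₀ hd0, map_one, one_mul]
  have h7 : 2 ∣ orderOf y := by
    by_contra hcon
    have hodd' : Odd (orderOf y) := Nat.not_even_iff_odd.1 (fun he => hcon he.two_dvd)
    obtain ⟨k, hk⟩ := hodd'
    have h8 : t ^ orderOf y = t := by
      rw [hk, pow_succ, pow_mul, sq, htt, one_pow, one_mul]
    exact htsc ⟨_, h8.symm.trans h6⟩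
  exact (hodd.coprime_two_right.symm).mul_dvd_of_dvd_of_dvd h7 h5

variable [Fintype F]

/-- The regular unipotent. -/
theorem exists_unip_sp (p m : ℕ) [Fact p.Prime] [CharP F p] (hodd : Odd (Fintype.card F))
    (hm : 1 ≤ m) :
    ∃ g : End F (Fin m ⊕ Fin m → F), SpSpace F m (Fin m ⊕ Fin m → F) (stdSp F m) g ∧
      g ^ p ^ Nat.clog p (2 * m) = 1 ∧ ∀ k, ScPow F g k → p ^ Nat.clog p (2 * m) ∣ k := by
  have hp : p.Prime := Fact.out
  have hcard := Cfsg.Agent.S2591.result (F := F) rfl hodd hm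
  have hne : Nonempty {C : ConjClasses ↥(Matrix.symplecticGroup (Fin m) F) //
      ∃ u : Matrix.symplecticGroup (Fin m) F, ConjClasses.mk u = C ∧
      ((u : Matrix (Fin m ⊕ Fin m) (Fin m ⊕ Fin m) F) - 1) ^ (2 * m) = 0 ∧
      ((u : Matrix (Fin m ⊕ Fin m) (Fin m ⊕ Fin m) F) - 1).rank = 2 * m - 1} := by
    by_contra hcon
    rw [not_nonempty_iff] at hcon
    rw [Nat.card_of_isEmpty] at hcard
    omega
  obtain ⟨-, u, -, hu1, hu2⟩ := hne
  have hcardι : Fintype.card (Fin m ⊕ Fin m) = 2 * m := by simp; ring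
  have hu3 : ∀ k, k < 2 * m → ((u : Matrix (Fin m ⊕ Fin m) (Fin m ⊕ Fin m) F) - 1) ^ k ≠ 0 := by
    intro k hk
    exact Cfsg.Agent.H176.SingleBlock.mat_pow_ne_zero (by rw [hu2, hcardι]) (by rw [hcardι]; omega)
      (by rw [hcardι]; exact hk)
  have hspace : SpSpace F m (Fin m ⊕ Fin m → F) (stdSp F m)
      (Matrix.toLinAlgEquiv' (u : Matrix (Fin m ⊕ Fin m) (Fin m ⊕ Fin m) F)) := by
    refine ⟨inferInstance, stdSp_isAlt F m, stdSp_nondeg F m, ?_, (isom_iff_mem _).2 u.2⟩
    rw [finrank_fintype_fun_eq_card, hcardι]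
  have hnz : Nonempty (Fin m ⊕ Fin m) := ⟨Sum.inl ⟨0, hm⟩⟩
  have hchar : CharP (Matrix (Fin m ⊕ Fin m) (Fin m ⊕ Fin m) F) p := inferInstance
  have hpow : ∀ j, (u : Matrix (Fin m ⊕ Fin m) (Fin m ⊕ Fin m) F) ^ p ^ j =
      1 + ((u : Matrix (Fin m ⊕ Fin m) (Fin m ⊕ Fin m) F) - 1) ^ p ^ j := by
    intro j
    rw [sub_pow_char_pow_of_commute p j (Commute.one_right _), one_pow]
    abel
  have hone : (u : Matrix (Fin m ⊕ Fin m) (Fin m ⊕ Fin m) F) ^ p ^ Nat.clog p (2 * m) = 1 := by
    rw [hpow, pow_eq_zero_of_le (Nat.le_pow_clog hp.one_lt _) hu1, add_zero]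
  have hsc : ∀ (a : Matrix (Fin m ⊕ Fin m) (Fin m ⊕ Fin m) F) k,
      ScPow F (Matrix.toLinAlgEquiv' a) k ↔ ScPow F a k := fun a k =>
    scPow_of_injective (Matrix.toLinAlgEquiv' (R := F) (n := Fin m ⊕ Fin m)).toAlgHom
      (Matrix.toLinAlgEquiv' (R := F) (n := Fin m ⊕ Fin m)).injective
  refine ⟨_, hspace, ?_, ?_⟩
  · rw [← map_pow, hone, map_one]
  · obtain ⟨x, hx⟩ := hspace.exists_psp
    have h1 : orderOf x ∣ p ^ Nat.clog p (2 * m) := by
      apply orderOf_dvd_of_pow_eq_one
      rw [hx, hsc]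
      exact ⟨1, by rw [hone, map_one]⟩
    obtain ⟨j, hj, hj2⟩ := (Nat.dvd_prime_pow hp).1 h1
    have h2 : ScPow F (u : Matrix (Fin m ⊕ Fin m) (Fin m ⊕ Fin m) F) (p ^ j) := by
      rw [← hsc, ← hx, ← hj2, pow_orderOf_eq_one]
    obtain ⟨c, hc⟩ := h2
    rw [hpow] at hc
    have h3 : ((u : Matrix (Fin m ⊕ Fin m) (Fin m ⊕ Fin m) F) - 1) ^ p ^ j =
        algebraMap F _ (c - 1) := by
      rw [map_sub, map_one, ← hc]; abel
    have h4 : c - 1 = 0 := by
      have h5 : (algebraMap F (Matrix (Fin m ⊕ Fin m) (Fin m ⊕ Fin m) F) (c - 1)) ^ (2 * m) = 0 := by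
        rw [← h3, ← pow_mul, mul_comm, pow_mul, hu1, zero_pow (pow_ne_zero _ hp.ne_zero)]
      rw [← map_pow] at h5
      have h6 : (c - 1) ^ (2 * m) = 0 :=
        (algebraMap F (Matrix (Fin m ⊕ Fin m) (Fin m ⊕ Fin m) F)).injective (by rw [h5, map_zero])
      exact pow_eq_zero_iff (by omega) |>.1 h6
    rw [h4, map_zero] at h3
    have h5 : 2 * m ≤ p ^ j := by
      by_contra hcon
      exact hu3 _ (by omega) h3
    have h6 : j = Nat.clog p (2 * m) :=
      le_antisymm hj ((Nat.clog_le_iff_le_pow hp.one_lt).2 h5)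
    intro k hk
    rw [← h6, ← hj2]
    exact orderOf_dvd_of_pow_eq_one ((hx k).2 hk)

end Cfsg.Agent.H159
end

-- part: H159/SpBuild
section
/-!
Orders of elements of `PSp_{2n}(q)`, `q` odd: existence, continued.
-/

set_option autoImplicit false

namespace Cfsg.Agent.H159

open Module LinearMap

variable {F : Type*} [Field F] [Fintype F]

/-- The two kinds of cyclic tori together. -/
theorem exists_torus (p m s : ℕ) [Fact p.Prime] [CharP F p] (h2 : (2 : F) ≠ 0) (hm : 1 ≤ m)
    (hs : s ∣ Fintype.card F ^ m - 1 ∨ s ∣ Fintype.card F ^ m + 1) :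
    ∃ (V : Type) (_ : AddCommGroup V) (_ : Module F V) (B : LinearMap.BilinForm F V) (g : End F V),
      SpSpace F m V B g ∧ ∀ k, g ^ k = 1 ↔ s ∣ k := by
  rcases hs with hs | hs
  · exact exists_split_torus p m s hm hs
  · exact exists_nonsplit_torus p m s h2 hm hs

theorem coprime_of_dvd (p m s : ℕ) [Fact p.Prime] [CharP F p] (hm : 1 ≤ m)
    (hs : s ∣ Fintype.card F ^ m - 1 ∨ s ∣ Fintype.card F ^ m + 1) : Nat.Coprime s p := by
  have hp : p.Prime := Fact.out
  obtain ⟨k, hk, hcard⟩ := FiniteField.card F p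
  have h1 : p ∣ Fintype.card F ^ m := by
    rw [hcard]
    exact dvd_pow (dvd_pow_self p k.pos.ne') (by omega)
  have h3 : 0 < Fintype.card F ^ m := pow_pos Fintype.card_pos _
  rw [Nat.coprime_comm, Nat.Prime.coprime_iff_not_dvd hp]
  intro h
  have h4 : p ∣ 1 := by
    rcases hs with hs | hs
    · have := (Nat.dvd_sub h1 (h.trans hs))
      rwa [Nat.sub_sub_self h3] at this
    · exact (Nat.dvd_add_right h1).1 (h.trans hs)
  exact hp.one_lt.ne' (Nat.dvd_one.1 h4)

/-- Orders `(q^n ± 1)/2`. -/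
theorem exists_half (p n s : ℕ) [Fact p.Prime] [CharP F p] (h2 : (2 : F) ≠ 0) (hn : 1 ≤ n)
    (hs : 2 * s ∣ Fintype.card F ^ n - 1 ∨ 2 * s ∣ Fintype.card F ^ n + 1) :
    ∃ x : Cfsg.PSp n F, s ∣ orderOf x := by
  obtain ⟨V, _, _, B, g, hg, hk⟩ := exists_torus p n (2 * s) h2 hn hs
  obtain ⟨x, hx⟩ := hg.exists_psp
  refine ⟨x, ?_⟩
  obtain ⟨c, hc⟩ := (hx _).1 (pow_orderOf_eq_one x)
  have hcc := hg.scalar_sq hn hc
  have h3 : g ^ (2 * orderOf x) = 1 := by
    rw [mul_comm, pow_mul, hc, sq, ← map_mul, hcc, map_one]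
  rw [hk] at h3
  exact Nat.dvd_of_mul_dvd_mul_left (by norm_num) h3

/-- The order of the regular unipotent. -/
theorem exists_unip_psp (p n : ℕ) [Fact p.Prime] [CharP F p] (hodd : Odd (Fintype.card F))
    (hn : 1 ≤ n) : ∃ x : Cfsg.PSp n F, p ^ Nat.clog p (2 * n) ∣ orderOf x := by
  obtain ⟨g, hg, -, hk⟩ := exists_unip_sp (F := F) p n hodd hn
  obtain ⟨x, hx⟩ := hg.exists_psp
  exact ⟨x, hk _ ((hx _).1 (pow_orderOf_eq_one x))⟩

/-- Decomposable elements. -/
theorem exists_decomp (p m₁ m₂ s : ℕ) [Fact p.Prime] [CharP F p] (h2 : (2 : F) ≠ 0)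
    (hodd : Odd (Fintype.card F)) (hm₁ : 1 ≤ m₁) (hm₂ : 1 ≤ m₂) (hs2 : Odd s)
    (hs : s ∣ Fintype.card F ^ m₁ - 1 ∨ s ∣ Fintype.card F ^ m₁ + 1) :
    ∃ x : Cfsg.PSp (m₁ + m₂) F, 2 * (s * p ^ Nat.clog p (2 * m₂)) ∣ orderOf x := by
  have hp : p.Prime := Fact.out
  obtain ⟨V, _, _, B, g, hg, hk⟩ := exists_torus p m₁ s h2 hm₁ hs
  obtain ⟨g', hg', hg'1, hk'⟩ := exists_unip_sp (F := F) p m₂ hodd hm₂
  have hneg : SpSpace F m₁ V B (-g) := ⟨hg.fin, hg.alt, hg.nondeg, hg.dim, hg.isom.neg⟩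
  obtain ⟨x, hx⟩ := (hneg.prod hg').exists_psp
  refine ⟨x, ?_⟩
  obtain ⟨c, hc⟩ := (hx _).1 (pow_orderOf_eq_one x)
  rw [prodMap_pow'] at hc
  have hfd := hg.fin
  have hnt : Nontrivial V := by
    rw [← Module.finrank_pos_iff (R := F), hg.dim]; omega
  have hnt' : Nontrivial (Fin m₂ ⊕ Fin m₂ → F) := by
    rw [← Module.finrank_pos_iff (R := F), hg'.dim]; omega
  have hc1 : (-g) ^ orderOf x = algebraMap F _ c := by
    ext v
    have := congrArg (fun f => (f (v, 0)).1) hc
    simpa using this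
  have hc2 : g' ^ orderOf x = algebraMap F _ c := by
    refine LinearMap.ext fun v => ?_
    have := congrArg (fun f => (f (0, v)).2) hc
    simpa using this
  have h3 : p ^ Nat.clog p (2 * m₂) ∣ orderOf x := hk' _ ⟨c, hc2⟩
  have hc3 : c = 1 := by
    obtain ⟨j, hj⟩ := h3
    rw [hj, pow_mul, hg'1, one_pow] at hc2
    exact ((algebraMap F (End F (Fin m₂ ⊕ Fin m₂ → F))).injective (by rw [map_one, hc2])).symm
  rw [hc3, map_one] at hc1
  have h4 : s ∣ orderOf x := by
    have h5 : g ^ (orderOf x * 2) = 1 := by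
      rw [mul_comm, ← (even_two_mul (orderOf x)).neg_pow g, mul_comm, pow_mul, hc1, one_pow]
    rw [hk] at h5
    exact (hs2.coprime_two_right).dvd_of_dvd_mul_right h5
  have h5 : 2 ∣ orderOf x := by
    by_contra hcon
    have hox : Odd (orderOf x) := Nat.not_even_iff_odd.1 (fun he => hcon he.two_dvd)
    rw [hox.neg_pow, (hk _).2 h4] at hc1
    have h6 : (2 : F) = 0 := by
      have h7 : algebraMap F (End F V) 2 = 0 := by
        rw [map_ofNat]
        have h8 : (1 : End F V) + 1 = 0 := by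
          nth_rewrite 1 [← hc1]; exact neg_add_cancel _
        rw [← h8]; norm_num
      exact (algebraMap F (End F V)).injective (by rw [h7, map_zero])
    exact h2 h6
  have hcop : Nat.Coprime s (p ^ Nat.clog p (2 * m₂)) := (coprime_of_dvd p m₁ s hm₁ hs).pow_right _
  have hp2 : Nat.Coprime 2 p := by
    rw [Nat.coprime_primes Nat.prime_two hp]
    rintro rfl
    apply h2
    have := CharP.cast_eq_zero F 2
    simpa using this
  have hcop2 : Nat.Coprime 2 (s * p ^ Nat.clog p (2 * m₂)) :=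
    Nat.Coprime.mul_right hs2.coprime_two_left (hp2.pow_right _)
  exact hcop2.mul_dvd_of_dvd_of_dvd h5 (hcop.mul_dvd_of_dvd_of_dvd h4 h3)

end Cfsg.Agent.H159
end
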