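import Mathlib
import Cfsg.Agent.H159.PslDich
import Cfsg.Agent.H159.SpBuild
set_option linter.all false

-- part: H159/Dual
section
/-!
The dual (conjugate reciprocal) of a polynomial, with respect to a field automorphism `σ` with
`σ² = 1`, and the factorisation of a self-dual polynomial.
-/

set_option autoImplicit false

namespace Cfsg.Agent.H159

open Polynomial

variable {F : Type*} [Field F] (σ : F →+* F)

/-- The (unnormalised) conjugate reciprocal polynomial. -/
noncomputable def dl (a : F[X]) : F[X] := (a.map σ).reverse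

theorem dl_mul (a b : F[X]) : dl σ (a * b) = dl σ a * dl σ b := by
  unfold dl
  rw [Polynomial.map_mul, reverse_mul_of_domain]

theorem dl_one : dl σ (1 : F[X]) = 1 := by
  unfold dl
  rw [Polynomial.map_one, ← C_1, reverse_C]

theorem dl_pow (a : F[X]) (k : ℕ) : dl σ (a ^ k) = dl σ a ^ k := by
  induction k with
  | zero => rw [pow_zero, pow_zero, dl_one]
  | succ k ih => rw [pow_succ, pow_succ, dl_mul, ih]

theorem coeff_zero_dl (a : F[X]) : (dl σ a).coeff 0 = σ a.leadingCoeff := by
  unfold dl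
  rw [coeff_zero_reverse, leadingCoeff_map]

theorem natDegree_dl {a : F[X]} (ha : a.coeff 0 ≠ 0) : (dl σ a).natDegree = a.natDegree := by
  unfold dl
  rw [reverse_natDegree, natDegree_map]
  have : (a.map σ).natTrailingDegree = 0 := by
    rw [natTrailingDegree_eq_zero]
    right
    rw [coeff_map]
    simpa using ha
  omega

theorem coeff_zero_dl_ne {a : F[X]} (ha : a ≠ 0) : (dl σ a).coeff 0 ≠ 0 := by
  rw [coeff_zero_dl]
  simpa using ha

theorem dl_ne_zero {a : F[X]} (ha : a ≠ 0) : dl σ a ≠ 0 := by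
  intro h
  have := coeff_zero_dl_ne σ ha
  rw [h, coeff_zero] at this
  exact this rfl

theorem dl_dl (hσ : ∀ c, σ (σ c) = c) {a : F[X]} (ha : a.coeff 0 ≠ 0) : dl σ (dl σ a) = a := by
  have h1 : (dl σ a).map σ = a.reverse := by
    unfold dl
    ext i
    rw [coeff_map, coeff_reverse, coeff_reverse, coeff_map, hσ, natDegree_map]
  have h2 : dl σ (dl σ a) = (a.reverse).reverse := by
    rw [← h1]; rfl
  rw [h2]
  ext i
  rw [coeff_reverse, coeff_reverse, reverse_natDegree]
  have h3 : a.natTrailingDegree = 0 := by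
    rw [natTrailingDegree_eq_zero]; right; exact ha
  rw [h3, Nat.sub_zero, revAt_invol]

theorem isUnit_dl {a : F[X]} (h : IsUnit a) : IsUnit (dl σ a) := by
  obtain ⟨c, hc, rfl⟩ := Polynomial.isUnit_iff.1 h
  unfold dl
  rw [map_C, reverse_C, isUnit_C]
  exact hc.map σ

theorem dl_dvd {a b : F[X]} (h : a ∣ b) : dl σ a ∣ dl σ b := by
  obtain ⟨c, rfl⟩ := h
  exact ⟨dl σ c, dl_mul σ a c⟩

theorem dl_associated {a b : F[X]} (h : Associated a b) : Associated (dl σ a) (dl σ b) := by
  obtain ⟨u, rfl⟩ := h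
  rw [dl_mul]
  exact (associated_mul_unit_right _ _ (isUnit_dl σ u.isUnit))

theorem isUnit_of_dl (hσ : ∀ c, σ (σ c) = c) {a : F[X]} (ha : a.coeff 0 ≠ 0)
    (h : IsUnit (dl σ a)) : IsUnit a := by
  have := isUnit_dl σ h
  rwa [dl_dl σ hσ ha] at this

theorem dl_irreducible (hσ : ∀ c, σ (σ c) = c) {f : F[X]} (hf : Irreducible f)
    (h0 : f.coeff 0 ≠ 0) : Irreducible (dl σ f) := by
  constructor
  · intro h
    exact hf.not_isUnit (isUnit_of_dl σ hσ h0 h)
  · intro b c hbc
    have hbc0 : (b * c).coeff 0 ≠ 0 := by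
      rw [← hbc]; exact coeff_zero_dl_ne σ hf.ne_zero
    rw [mul_coeff_zero] at hbc0
    have hb0 : b.coeff 0 ≠ 0 := left_ne_zero_of_mul hbc0
    have hc0 : c.coeff 0 ≠ 0 := right_ne_zero_of_mul hbc0
    have h1 : f = dl σ b * dl σ c := by
      rw [← dl_mul, ← hbc, dl_dl σ hσ h0]
    rcases hf.isUnit_or_isUnit h1 with h | h
    · exact Or.inl (isUnit_of_dl σ hσ hb0 h)
    · exact Or.inr (isUnit_of_dl σ hσ hc0 h)

/-- **Factorisation of a self-dual polynomial** along an irreducible factor. -/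
theorem selfdual_factor (hσ : ∀ c, σ (σ c) = c) {μ f : F[X]} (hμ0 : μ.coeff 0 ≠ 0)
    (hμ : Associated (dl σ μ) μ) (hf : Irreducible f) (hdvd : f ∣ μ) :
    ∃ (a b : F[X]) (k : ℕ), k ≠ 0 ∧ μ = a * b ∧ IsCoprime a b ∧ Associated (dl σ a) a ∧
      Associated (dl σ b) b ∧
      ((a = f ^ k ∧ Associated (dl σ f) f) ∨ (a = f ^ k * (dl σ f) ^ k ∧ IsCoprime f (dl σ f))) := by
  have hμne : μ ≠ 0 := by rintro rfl; exact hμ0 (coeff_zero 0)
  have hf0 : f.coeff 0 ≠ 0 := by
    obtain ⟨c, rfl⟩ := hdvd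
    rw [mul_coeff_zero] at hμ0
    exact left_ne_zero_of_mul hμ0
  have hf' := dl_irreducible σ hσ hf hf0
  obtain ⟨k, b, hb, hfb⟩ := WfDvdMonoid.max_power_factor hμne hf
  have hk : k ≠ 0 := by
    rintro rfl
    rw [pow_zero, one_mul] at hfb
    rw [hfb] at hdvd
    exact hb hdvd
  have hb0 : b.coeff 0 ≠ 0 := by
    rw [hfb, mul_coeff_zero] at hμ0
    exact right_ne_zero_of_mul hμ0
  have hbne : b ≠ 0 := by rintro rfl; exact hb0 (coeff_zero 0)
  have hcop : IsCoprime f b := (hf.coprime_iff_not_dvd).2 hb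
  by_cases hff : f ∣ dl σ f
  · -- `f` is self-dual
    have hass : Associated (dl σ f) f := by
      have h1 : Associated f (dl σ f) := hf.associated_of_dvd hf' hff
      exact h1.symm
    refine ⟨f ^ k, b, k, hk, hfb, hcop.pow_left, ?_, ?_, Or.inl ⟨rfl, hass⟩⟩
    · rw [dl_pow]; exact hass.pow_pow
    · rw [hfb, dl_mul, dl_pow] at hμ
      exact hμ.of_mul_left (hass.pow_pow) (pow_ne_zero _ (dl_ne_zero σ hf.ne_zero))
  · have hcff : IsCoprime f (dl σ f) := (hf.coprime_iff_not_dvd).2 hff
    have h1 : (dl σ f) ^ k ∣ b := by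
      have h2 : (dl σ f) ^ k ∣ μ := by
        refine dvd_trans ?_ hμ.dvd
        rw [hfb, dl_mul, dl_pow]
        exact Dvd.intro _ rfl
      rw [hfb] at h2
      exact (hcff.symm.pow).dvd_of_dvd_mul_left h2
    obtain ⟨b', hb'⟩ := h1
    have hb'0 : b'.coeff 0 ≠ 0 := by
      rw [hb', mul_coeff_zero] at hb0
      exact right_ne_zero_of_mul hb0
    have hfac : μ = f ^ k * (dl σ f) ^ k * b' := by rw [hfb, hb', mul_assoc]
    have hself : Associated (dl σ (f ^ k * (dl σ f) ^ k)) (f ^ k * (dl σ f) ^ k) := by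
      rw [dl_mul, dl_pow, dl_pow, dl_dl σ hσ hf0, mul_comm]
    have hb's : Associated (dl σ b') b' := by
      rw [hfac, dl_mul] at hμ
      exact hμ.of_mul_left hself (dl_ne_zero σ (mul_ne_zero (pow_ne_zero _ hf.ne_zero)
        (pow_ne_zero _ (dl_ne_zero σ hf.ne_zero))))
    have hfb' : ¬ f ∣ b' := fun h => hb (h.trans (Dvd.intro_left _ hb'.symm))
    have hfb'' : ¬ dl σ f ∣ b' := by
      intro h
      have h3 := dl_dvd σ h
      rw [dl_dl σ hσ hf0] at h3
      exact hfb' (h3.trans hb's.dvd)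
    refine ⟨f ^ k * (dl σ f) ^ k, b', k, hk, hfac, ?_, hself, hb's, Or.inr ⟨rfl, hcff⟩⟩
    exact IsCoprime.mul_left ((hf.coprime_iff_not_dvd).2 hfb').pow_left
      ((hf'.coprime_iff_not_dvd).2 hfb'').pow_left

end Cfsg.Agent.H159
end

-- part: H159/Ses
section
/-!
Sesquilinear forms, isometries and their minimal polynomials: the minimal polynomial is self-dual,
and a coprime factorisation into self-dual factors gives a self-adjoint idempotent.
-/

set_option autoImplicit false

namespace Cfsg.Agent.H159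

open Polynomial Module

variable {F V : Type*} [Field F] [AddCommGroup V] [Module F V]

/-- Sesquilinear, nondegenerate. -/
structure Ses (σ : F →+* F) (B : V → V → F) : Prop where
  add_left : ∀ u v w, B (u + v) w = B u w + B v w
  add_right : ∀ u v w, B u (v + w) = B u v + B u w
  smul_left : ∀ (c : F) u v, B (c • u) v = c * B u v
  smul_right : ∀ (c : F) u v, B u (c • v) = σ c * B u v
  nondeg_left : ∀ u, (∀ v, B u v = 0) → u = 0
  nondeg_right : ∀ v, (∀ u, B u v = 0) → v = 0

theorem Ses.zero_left {σ : F →+* F} {B : V → V → F} (h : Ses σ B) (v : V) : B 0 v = 0 := by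
  have := h.smul_left 0 0 v
  simpa using this

theorem Ses.zero_right {σ : F →+* F} {B : V → V → F} (h : Ses σ B) (v : V) : B v 0 = 0 := by
  have := h.smul_right 0 v 0
  simpa using this

/-- The adjoint of `P(g)` is `P^σ(g⁻¹)`. -/
theorem Ses.adj {σ : F →+* F} (hσ : ∀ c, σ (σ c) = c) {B : V → V → F} (h : Ses σ B) {g g' : End F V}
    (hgg' : g * g' = 1) (hg : ∀ u v, B (g u) (g v) = B u v) (P : F[X]) (u v : V) :
    B (aeval g P u) v = B u (aeval g' (P.map σ) v) := by
  have h1 : ∀ u v, B (g u) v = B u (g' v) := by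
    intro u v
    rw [← hg u (g' v)]
    have : g (g' v) = v := by
      have := congrArg (fun f : End F V => f v) hgg'
      simpa using this
    rw [this]
  have h2 : ∀ (n : ℕ) u v, B ((g ^ n) u) v = B u ((g' ^ n) v) := by
    intro n
    induction n with
    | zero => intro u v; simp
    | succ n ih =>
      intro u v
      rw [pow_succ, pow_succ', Module.End.mul_apply, Module.End.mul_apply, ih, h1]
  induction P using Polynomial.induction_on' generalizing u v with
  | add p q hp hq =>
    rw [map_add, Polynomial.map_add, map_add, LinearMap.add_apply, LinearMap.add_apply, h.add_left,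
      h.add_right, hp, hq]
  | monomial n c =>
    rw [aeval_monomial, map_monomial, aeval_monomial, Module.End.mul_apply, Module.End.mul_apply,
      Module.algebraMap_end_apply, Module.algebraMap_end_apply, h.smul_left, h.smul_right, hσ, h2]

omit [AddCommGroup V] [Module F V] in
/-- Evaluating a reflected polynomial. -/
theorem aeval_reflect {R : Type*} [Ring R] [Algebra F R] {g g' : R} (hgg' : g * g' = 1) (N : ℕ)
    (P : F[X]) (hP : P.natDegree ≤ N) : aeval g (reflect N P) = g ^ N * aeval g' P := by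
  have hpow : ∀ k, g ^ k * g' ^ k = 1 := by
    intro k
    induction k with
    | zero => simp
    | succ k ih =>
      rw [pow_succ, pow_succ']
      calc g ^ k * g * (g' * g' ^ k) = g ^ k * (g * g') * g' ^ k := by simp only [mul_assoc]
        _ = 1 := by rw [hgg', mul_one, ih]
  refine Polynomial.induction_with_natDegree_le (fun P => aeval g (reflect N P) = g ^ N * aeval g' P)
    N ?_ ?_ ?_ P hP
  · simp
  · intro n r _ hn
    rw [reflect_C_mul_X_pow, revAt_le hn]
    simp only [map_mul, aeval_C, map_pow, aeval_X]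
    have h1 : g ^ N * g' ^ n = g ^ (N - n) := by
      conv_lhs => rw [show N = (N - n) + n by omega, pow_add, mul_assoc, hpow, mul_one]
    rw [← mul_assoc, ← Algebra.commutes r (g ^ N), mul_assoc, h1]
  · intro f p _ _ hf hp
    rw [reflect_add, map_add, hf, hp, map_add, mul_add]

omit [AddCommGroup V] [Module F V] in
theorem aeval_dl {R : Type*} [Ring R] [Algebra F R] (σ : F →+* F) {g g' : R} (hgg' : g * g' = 1)
    (a : F[X]) : aeval g (dl σ a) = g ^ a.natDegree * aeval g' (a.map σ) := by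
  unfold dl reverse
  rw [aeval_reflect hgg' _ _ le_rfl, natDegree_map]

/-- The minimal polynomial of an isometry is self-dual. -/
theorem Ses.minpoly_selfdual {σ : F →+* F} (hσ : ∀ c, σ (σ c) = c) {B : V → V → F} (h : Ses σ B)
    [FiniteDimensional F V] {g g' : End F V} (hgg' : g * g' = 1)
    (hg : ∀ u v, B (g u) (g v) = B u v) (h0 : (minpoly F g).coeff 0 ≠ 0) :
    Associated (dl σ (minpoly F g)) (minpoly F g) := by
  have h1 : aeval g' ((minpoly F g).map σ) = 0 := by
    ext v
    apply h.nondeg_right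
    intro u
    rw [← h.adj hσ hgg' hg, minpoly.aeval, LinearMap.zero_apply, h.zero_left]
  have h2 : minpoly F g ∣ dl σ (minpoly F g) := by
    apply minpoly.dvd
    rw [aeval_dl σ hgg', h1, mul_zero]
  have hne : minpoly F g ≠ 0 := by intro hh; rw [hh] at h0; exact h0 (coeff_zero 0)
  exact (associated_of_dvd_of_natDegree_le h2 (dl_ne_zero σ hne) (natDegree_dl σ h0).le).symm

/-- A self-dual coprime factorisation gives a self-adjoint idempotent commuting with `g`. -/
theorem Ses.exists_idempotent {σ : F →+* F} (hσ : ∀ c, σ (σ c) = c) {B : V → V → F} (h : Ses σ B)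
    {g g' : End F V} (hgg' : g * g' = 1) (hg'g : g' * g = 1)
    (hg : ∀ u v, B (g u) (g v) = B u v) (hμ0 : (minpoly F g) ≠ 0) {a b : F[X]}
    (hab : minpoly F g = a * b) (hc : IsCoprime a b) (ha : ¬ IsUnit a) (hb : ¬ IsUnit b)
    (hda : Associated (dl σ a) a) (hdb : Associated (dl σ b) b) :
    ∃ e : End F V, e * e = e ∧ e ≠ 0 ∧ e ≠ 1 ∧ e * g = g * e ∧ ∀ u v, B (e u) v = B u (e v) := by
  obtain ⟨u, v, huv⟩ := id hc
  have hprod : aeval g (a * b) = 0 := by rw [← hab, minpoly.aeval]
  have hg' : ∀ u v, B (g' u) (g' v) = B u v := by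
    intro x y
    rw [← hg (g' x) (g' y)]
    have h1 : ∀ v, g (g' v) = v := by
      intro v
      have := congrArg (fun f : End F V => f v) hgg'
      simpa using this
    rw [h1, h1]
  have hadj' : ∀ (P : F[X]) (x y : V), B x (aeval g P y) = B (aeval g' (P.map σ) x) y := by
    intro P x y
    rw [h.adj hσ hg'g hg' (P.map σ) x y]
    have : (P.map σ).map σ = P := by
      ext i; simp [hσ]
    rw [this]
  -- `c(g') z = 0` when `c` is self-dual and `c(g) z = 0`
  have hkill : ∀ c : F[X], Associated (dl σ c) c → ∀ z, aeval g c z = 0 →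
      aeval g' (c.map σ) z = 0 := by
    intro c hcc z hz
    have h1 : aeval g (dl σ c) z = 0 := by
      obtain ⟨d, hd⟩ := hcc.symm.dvd
      rw [hd, mul_comm, map_mul, Module.End.mul_apply, hz, map_zero]
    rw [aeval_dl σ hgg', Module.End.mul_apply] at h1
    have h2 : ∀ k, g' ^ k * g ^ k = 1 := by
      intro k
      induction k with
      | zero => simp
      | succ k ih =>
        rw [pow_succ, pow_succ']
        calc g' ^ k * g' * (g * g ^ k) = g' ^ k * (g' * g) * g ^ k := by simp only [mul_assoc]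
          _ = 1 := by rw [hg'g, mul_one, ih]
    have h3 := congrArg (fun w => (g' ^ c.natDegree) w) h1
    simp only [map_zero] at h3
    rw [← Module.End.mul_apply, h2, Module.End.one_apply] at h3
    exact h3
  -- orthogonality
  have ho1 : ∀ x y, B (aeval g (u * a) x) (aeval g (v * b) y) = 0 := by
    intro x y
    rw [mul_comm v b, map_mul (aeval g) b v, Module.End.mul_apply, hadj', hkill b hdb, h.zero_left]
    rw [← Module.End.mul_apply, ← map_mul, show b * (u * a) = u * (a * b) by ring, map_mul, hprod,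
      mul_zero, LinearMap.zero_apply]
  have ho2 : ∀ x y, B (aeval g (v * b) x) (aeval g (u * a) y) = 0 := by
    intro x y
    rw [mul_comm u a, map_mul (aeval g) a u, Module.End.mul_apply, hadj', hkill a hda, h.zero_left]
    rw [← Module.End.mul_apply, ← map_mul, show a * (v * b) = v * (a * b) by ring, map_mul, hprod,
      mul_zero, LinearMap.zero_apply]
  have hsplit : ∀ x, x = aeval g (u * a) x + aeval g (v * b) x := by
    intro x
    rw [← LinearMap.add_apply, ← map_add, huv, map_one, Module.End.one_apply]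
  refine ⟨aeval g (u * a), ?_, ?_, ?_, ?_, ?_⟩
  · have h1 : u * a * (u * a) = u * a - u * v * (a * b) := by
      have : u * a = 1 - v * b := by rw [← huv]; ring
      calc u * a * (u * a) = u * a * (1 - v * b) := by rw [← this]
        _ = _ := by ring
    rw [← map_mul, h1, map_sub, map_mul (aeval g) (u * v), hprod, mul_zero, sub_zero]
  · intro h
    have h1 := minpoly.dvd F g h
    rw [hab, mul_comm a b] at h1
    have ha0 : a ≠ 0 := by rintro rfl; rw [zero_mul] at hab; exact hμ0 hab
    have h2 : b ∣ u := (mul_dvd_mul_iff_right ha0).1 h1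
    apply hb
    rw [isUnit_iff_dvd_one, ← huv]
    exact dvd_add (h2.mul_right a) (Dvd.intro_left v rfl)
  · intro h
    have h3 : aeval g (v * b) = 0 := by
      have : v * b = 1 - u * a := by rw [← huv]; ring
      rw [this, map_sub, h, map_one, sub_self]
    have h1 := minpoly.dvd F g h3
    rw [hab] at h1
    have hb0 : b ≠ 0 := by rintro rfl; rw [mul_zero] at hab; exact hμ0 hab
    have h2 : a ∣ v := (mul_dvd_mul_iff_right hb0).1 h1
    apply ha
    rw [isUnit_iff_dvd_one, ← huv]
    exact dvd_add (Dvd.intro_left u rfl) (h2.mul_right b)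
  · have h4 := congrArg (aeval g) (mul_comm (u * a) X)
    rwa [map_mul (aeval g) (u * a) X, map_mul (aeval g) X (u * a), aeval_X] at h4
  · intro x y
    conv_lhs => rw [hsplit y, h.add_right, ho1, add_zero]
    conv_rhs => rw [hsplit x, h.add_left, ho2, add_zero]

end Cfsg.Agent.H159
end

-- part: H159/FieldRoot
section
/-!
Roots of irreducible polynomials over finite fields: conjugates are `q`-powers; duals.
-/

set_option autoImplicit false

namespace Cfsg.Agent.H159

open Polynomial Module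

variable {F : Type*} [Field F]

/-- If `y` is a root of `a` then `(τ y)⁻¹` is a root of the dual of `a`. -/
theorem aeval_dl_inv {K : Type*} [Field K] [Algebra F K] (σ : F →+* F) (τ : K →+* K)
    (hτ : ∀ c : F, τ (algebraMap F K c) = algebraMap F K (σ c)) {a : F[X]} {y : K} (hy0 : y ≠ 0)
    (hy : aeval y a = 0) : aeval (τ y)⁻¹ (dl σ a) = 0 := by
  have hty : τ y ≠ 0 := by simpa using hy0
  let _ : Invertible (τ y) := invertibleOfNonzero hty
  have h1 := eval₂_reverse_mul_pow (algebraMap F K) (τ y) (a.map σ)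
  rw [invOf_eq_inv] at h1
  have h2 : eval₂ (algebraMap F K) (τ y) (a.map σ) = 0 := by
    rw [eval₂_map]
    have h3 : (algebraMap F K).comp σ = τ.comp (algebraMap F K) := by
      ext c; simp [hτ]
    rw [h3, ← hom_eval₂, ← aeval_def, hy, map_zero]
  rw [h2] at h1
  rw [aeval_def]
  exact (mul_eq_zero.1 h1).resolve_right (pow_ne_zero _ hty)

variable [Fintype F]

/-- Roots of `f` in `F[X]/(f)` are the `q^j`-th powers of the given root. -/
theorem exists_pow_of_root {f : F[X]} (hf : Irreducible f) [Fact (Irreducible f)]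
    (y : AdjoinRoot f) (hy : aeval y f = 0) :
    ∃ j : ℕ, y = (AdjoinRoot.root f) ^ (Fintype.card F ^ j) := by
  have hfd : FiniteDimensional F (AdjoinRoot f) := (AdjoinRoot.powerBasis hf.ne_zero).finite
  have hfin : Finite (AdjoinRoot f) := Module.finite_of_finite F
  obtain ⟨p, hp⟩ := CharP.exists F
  have hpf : Fact p.Prime := ⟨CharP.char_is_prime F p⟩
  let φ : AdjoinRoot f →ₐ[F] AdjoinRoot f := AdjoinRoot.liftAlgHom f (Algebra.ofId F _) y hy
  have hφ : Function.Bijective φ := by
    have h1 : Function.Injective φ := φ.toRingHom.injective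
    exact Finite.injective_iff_bijective.1 h1
  obtain ⟨j, hj⟩ := FiniteField.exists_forall_apply_eq_pow F p (AdjoinRoot f)
    (AlgEquiv.ofBijective φ hφ)
  refine ⟨j, ?_⟩
  have h2 := hj (AdjoinRoot.root f)
  rw [Nat.card_eq_fintype_card] at h2
  rw [← h2]
  exact (AdjoinRoot.liftAlgHom_root f (Algebra.ofId F _) y hy).symm

/-- `x ^ (q^m) = x` iff `d ∣ m`. -/
theorem root_pow_card_iff {f : F[X]} (hf : Irreducible f) (m : ℕ) :
    (AdjoinRoot.root f) ^ (Fintype.card F ^ m) = AdjoinRoot.root f ↔ f.natDegree ∣ m := by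
  rw [hf.natDegree_dvd_iff_dvd_X_pow_card_pow_sub_X, Nat.card_eq_fintype_card,
    ← AdjoinRoot.mk_eq_mk, map_pow, AdjoinRoot.mk_X]

/-- For all elements. -/
theorem pow_card_pow_eq {f : F[X]} (hf : Irreducible f) [Fact (Irreducible f)] (z : AdjoinRoot f)
    (m : ℕ) : z ^ (Fintype.card F ^ (f.natDegree * m)) = z := by
  have hfd : FiniteDimensional F (AdjoinRoot f) := (AdjoinRoot.powerBasis hf.ne_zero).finite
  have hfin : Finite (AdjoinRoot f) := Module.finite_of_finite F
  have := Fintype.ofFinite (AdjoinRoot f)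
  have hd : finrank F (AdjoinRoot f) = f.natDegree := by
    rw [(AdjoinRoot.powerBasis hf.ne_zero).finrank, AdjoinRoot.powerBasis_dim]
  have hcard : Fintype.card (AdjoinRoot f) = Fintype.card F ^ f.natDegree := by
    rw [Module.card_eq_pow_finrank (K := F), hd]
  rw [pow_mul, ← hcard, FiniteField.pow_card_pow]

end Cfsg.Agent.H159
end

-- part: H159/SpDich
section
/-!
Elements of odd order of `PSp_{2n}(q)`, `q` odd: either twice the order divides the order of an
element, or the order divides `(q^n-1)/2`, `(q^n+1)/2` or `p^e`.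
-/

set_option autoImplicit false

namespace Cfsg.Agent.H159

open Module LinearMap Polynomial

variable {F : Type*} [Field F]

theorem dl_X_pow_sub_C (σ : F →+* F) (s : ℕ) (c : F) :
    dl σ (X ^ s - C c) = 1 - C (σ c) * X ^ s := by
  unfold dl reverse
  rw [Polynomial.map_sub, Polynomial.map_pow, map_X, map_C, natDegree_X_pow_sub_C, reflect_sub,
    reflect_monomial, reflect_C, revAt_le le_rfl, Nat.sub_self, pow_zero]

/-- If `f ∣ X^s - 1` then also its dual divides it. -/
theorem dl_dvd_X_pow_sub_one (σ : F →+* F) {f : F[X]} {s : ℕ} (h : f ∣ X ^ s - 1) :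
    dl σ f ∣ X ^ s - 1 := by
  have h1 := dl_dvd σ h
  rw [← C_1, dl_X_pow_sub_C σ s, map_one, C_1, one_mul, ← neg_sub, dvd_neg] at h1
  exact h1

theorem SpSpace.ses {n : ℕ} {V : Type*} [AddCommGroup V] [Module F V]
    {B : LinearMap.BilinForm F V} {g : End F V} (h : SpSpace F n V B g) :
    Ses (RingHom.id F) (fun u v => B u v) where
  add_left u v w := by simp
  add_right u v w := by simp
  smul_left c u v := by simp
  smul_right c u v := by simp
  nondeg_left := h.nondeg.1
  nondeg_right := h.nondeg.2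

theorem arith1 {d k n : ℕ} (hd : 1 ≤ d) (hdn : d < n) (h : d * k ≤ n) : k ≤ 2 * (n - d) := by
  rcases Nat.lt_or_ge k 2 with hk | hk
  · omega
  · obtain ⟨j, rfl⟩ : ∃ j, k = j + 2 := ⟨k - 2, by omega⟩
    have h1 : j + 1 ≤ d * (j + 1) := Nat.le_mul_of_pos_left _ hd
    have h2 : d * (j + 2) = d * (j + 1) + d := by ring
    omega

variable [Fintype F]

/-- The order of the root of a self-dual irreducible polynomial. -/
theorem root_selfdual {f : F[X]} (hf : Irreducible f)
    (hff : Associated (dl (RingHom.id F) f) f) {o : ℕ} (ho : Odd o)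
    (hfo : f ∣ X ^ o - 1) (hf1 : ¬ f ∣ X - 1) :
    ∃ d, 1 ≤ d ∧ f.natDegree = 2 * d ∧ f ∣ X ^ (Fintype.card F ^ d + 1) - 1 := by
  have hfact : Fact (Irreducible f) := ⟨hf⟩
  set x := AdjoinRoot.root f with hx
  have hfx : aeval x f = 0 := by rw [AdjoinRoot.aeval_eq, AdjoinRoot.mk_self]
  have hxo : x ^ o = 1 := by
    rw [hx, ← AdjoinRoot.mk_X, ← map_pow, ← map_one (AdjoinRoot.mk f), AdjoinRoot.mk_eq_mk]
    exact hfo
  have hx0 : x ≠ 0 := by
    rintro h
    rw [h, zero_pow (by rintro rfl; simp at ho)] at hxo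
    exact zero_ne_one hxo
  have h1 : aeval x⁻¹ (dl (RingHom.id F) f) = 0 :=
    aeval_dl_inv (K := AdjoinRoot f) (RingHom.id F) (RingHom.id _) (fun c => rfl) hx0 hfx
  have h2 : aeval x⁻¹ f = 0 := aeval_eq_zero_of_dvd_aeval_eq_zero hff.dvd h1
  obtain ⟨j, hj⟩ := exists_pow_of_root hf x⁻¹ h2
  rw [← hx] at hj
  have h3 : x ^ (Fintype.card F ^ (2 * j)) = x := by
    rw [two_mul, pow_add, pow_mul, ← hj, inv_pow, ← hj, inv_inv]
  have h4 : f.natDegree ∣ 2 * j := (root_pow_card_iff hf _).1 h3
  have h5 : ¬ f.natDegree ∣ j := by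
    intro h
    have h6 := (root_pow_card_iff hf _).2 h
    rw [← hx, ← hj] at h6
    have h7 : x ^ 2 = 1 := by
      rw [sq]; nth_rewrite 1 [← h6]; exact inv_mul_cancel₀ hx0
    have h8 : x = 1 := by
      obtain ⟨k, hk⟩ := ho
      rw [hk, pow_succ, pow_mul, h7, one_pow, one_mul] at hxo
      exact hxo
    apply hf1
    rw [← AdjoinRoot.mk_eq_mk, AdjoinRoot.mk_X, map_one]
    exact h8
  -- the degree is even
  have h6 : 2 ∣ f.natDegree := by
    by_contra hcon
    have h7 : Nat.Coprime f.natDegree 2 := by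
      rw [Nat.coprime_comm, Nat.Prime.coprime_iff_not_dvd Nat.prime_two]; exact hcon
    exact h5 (h7.dvd_of_dvd_mul_left h4)
  obtain ⟨d, hd⟩ := h6
  have hdpos : 1 ≤ d := by
    have := hf.natDegree_pos
    omega
  refine ⟨d, hdpos, hd, ?_⟩
  obtain ⟨l, hl⟩ := h4
  have hl2 : j = d * l := by
    rw [hd, mul_assoc] at hl
    exact Nat.eq_of_mul_eq_mul_left (by norm_num) hl
  have hlodd : Odd l := by
    rw [← Nat.not_even_iff_odd]
    rintro ⟨i, hi⟩
    apply h5
    rw [hd, hl2, hi]
    exact ⟨i, by ring⟩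
  obtain ⟨i, hi⟩ := hlodd
  have h7 : x ^ (Fintype.card F ^ j) = x ^ (Fintype.card F ^ d) := by
    rw [hl2, hi, show d * (2 * i + 1) = f.natDegree * i + d by rw [hd]; ring, pow_add, pow_mul,
      pow_card_pow_eq hf]
  rw [← AdjoinRoot.mk_eq_mk, map_pow, AdjoinRoot.mk_X, map_one, ← hx, pow_succ, ← h7, ← hj,
    inv_mul_cancel₀ hx0]

omit [Fintype F] in
theorem dvd_X_pow_of_factor {f : F[X]} {p : ℕ} [Fact p.Prime] [CharP F p]
    {k s : ℕ} (hfs : f ∣ X ^ s - 1) : f ^ k ∣ X ^ (s * p ^ Nat.clog p k) - 1 := by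
  have hp : p.Prime := Fact.out
  have h1 : (X ^ s - 1 : F[X]) ^ p ^ Nat.clog p k = X ^ (s * p ^ Nat.clog p k) - 1 := by
    rw [sub_pow_char_pow, one_pow, ← pow_mul]
  rw [← h1]
  exact (pow_dvd_pow f (Nat.le_pow_clog hp.one_lt k)).trans (pow_dvd_pow_of_dvd hfs _)

theorem exists_decomp' (p m₁ m₂ n s : ℕ) [Fact p.Prime] [CharP F p] (hmn : m₁ + m₂ = n)
    (h2 : (2 : F) ≠ 0)
    (hodd : Odd (Fintype.card F)) (hm₁ : 1 ≤ m₁) (hm₂ : 1 ≤ m₂) (hs2 : Odd s)
    (hs : s ∣ Fintype.card F ^ m₁ - 1 ∨ s ∣ Fintype.card F ^ m₁ + 1) :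
    ∃ x : Cfsg.PSp n F, 2 * (s * p ^ Nat.clog p (2 * m₂)) ∣ orderOf x := by
  subst hmn
  exact exists_decomp p m₁ m₂ s h2 hodd hm₁ hm₂ hs2 hs

omit [Fintype F] in
theorem gcd_dvd_of {f : F[X]} {m n : ℕ} (hm : f ∣ X ^ m - 1) (hn : f ∣ X ^ n - 1) :
    f ∣ X ^ (Nat.gcd m n) - 1 := by
  rw [← AdjoinRoot.mk_eq_mk, map_pow, map_one] at hm hn ⊢
  exact pow_gcd_eq_one.2 ⟨hm, hn⟩

omit [Fintype F] in
theorem scPow_neg {R : Type*} [Ring R] [Algebra F R] (g : R) (m : ℕ) :
    ScPow F (-g) m ↔ ScPow F g m := by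
  have key : ∀ a : R, ScPow F a m → ScPow F (-a) m := by
    rintro a ⟨d, hd⟩
    exact ⟨(-1) ^ m * d, by rw [neg_pow, hd, map_mul, map_pow, map_neg, map_one]⟩
  constructor
  · intro h
    have := key _ h
    rwa [neg_neg] at this
  · exact key g

theorem neg_pow_odd {R : Type*} [Ring R] (g : R) {m : ℕ} (hm : Odd m) (h : g ^ m = -1) :
    (-g) ^ m = 1 := by
  rw [hm.neg_pow, h, neg_neg]

/-- **The dichotomy for `PSp_{2n}(q)`, `q` odd.** -/
theorem sp_dich {n p : ℕ} [Fact p.Prime] [CharP F p] (hoddF : Odd (Fintype.card F)) (hn : 1 ≤ n)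
    (x : Cfsg.PSp n F) (hodd : Odd (orderOf x)) :
    (∃ y : Cfsg.PSp n F, 2 * orderOf x ∣ orderOf y) ∨ 2 * orderOf x ∣ Fintype.card F ^ n - 1 ∨
      2 * orderOf x ∣ Fintype.card F ^ n + 1 ∨ orderOf x ∣ p ^ Nat.clog p (2 * n) := by
  have hp : p.Prime := Fact.out
  have h2 : (2 : F) ≠ 0 := by
    intro h
    have h3 : p ∣ 2 := (CharP.cast_eq_zero_iff F p 2).1 (by exact_mod_cast h)
    have h4 : p = 2 := (Nat.prime_dvd_prime_iff_eq hp Nat.prime_two).1 h3
    subst h4
    obtain ⟨k, -, hk⟩ := FiniteField.card F 2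
    rw [hk] at hoddF
    exact absurd hoddF (Nat.not_odd_iff_even.2 ((Nat.even_pow.2 ⟨even_two, k.pos.ne'⟩)))
  -- choose the lift of odd order
  obtain ⟨g, hspace, hx, hgo⟩ : ∃ g : End F (Fin n ⊕ Fin n → F),
      SpSpace F n (Fin n ⊕ Fin n → F) (stdSp F n) g ∧ (∀ m, x ^ m = 1 ↔ ScPow F g m) ∧
      g ^ orderOf x = 1 := by
    obtain ⟨g₀, hg₀, hx₀⟩ := exists_end_of_psp x
    have hsp : SpSpace F n (Fin n ⊕ Fin n → F) (stdSp F n) g₀ :=
      ⟨inferInstance, stdSp_isAlt F n, stdSp_nondeg F n, by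
        rw [finrank_fintype_fun_eq_card]; simp; ring, hg₀⟩
    obtain ⟨c, hc⟩ := (hx₀ _).1 (pow_orderOf_eq_one x)
    have hcc := hsp.scalar_sq hn hc
    rcases mul_self_eq_one_iff.1 hcc with h | h
    · exact ⟨g₀, hsp, hx₀, by rw [hc, h, map_one]⟩
    · have hc' : g₀ ^ orderOf x = -1 := by rw [hc, h, map_neg, map_one]
      refine ⟨-g₀, ⟨hsp.fin, hsp.alt, hsp.nondeg, hsp.dim, hg₀.neg⟩, fun m => ?_, ?_⟩
      · rw [hx₀ m]
        exact (scPow_neg g₀ m).symm
      · exact neg_pow_odd g₀ hodd hc'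
  set o := orderOf x with ho
  have ho0 : 0 < o := hodd.pos
  have hfd := hspace.fin
  have hmuo : minpoly F g ∣ X ^ o - 1 := minpoly.dvd F g (by simp [hgo])
  have hμne : minpoly F g ≠ 0 := minpoly.ne_zero (Algebra.IsIntegral.isIntegral _)
  have hμmon : (minpoly F g).Monic := minpoly.monic (Algebra.IsIntegral.isIntegral _)
  have hcoeff : ∀ f : F[X], f ∣ X ^ o - 1 → f.coeff 0 ≠ 0 := by
    rintro f ⟨c, hc⟩ h
    have h3 := congrArg (fun f => coeff f 0) hc
    simp only [mul_coeff_zero, h, zero_mul, coeff_sub, coeff_X_pow, coeff_one_zero] at h3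
    rw [if_neg (by omega)] at h3
    simp at h3
  have hμ0 := hcoeff _ hmuo
  have hdeg : (minpoly F g).natDegree ≤ 2 * n := by
    refine le_trans (Polynomial.natDegree_le_of_dvd (LinearMap.minpoly_dvd_charpoly _)
      (LinearMap.charpoly_monic _).ne_zero) ?_
    rw [LinearMap.charpoly_natDegree, hspace.dim]
  have hodiv : ∀ m, g ^ m = 1 → o ∣ m := fun m hm =>
    orderOf_dvd_of_pow_eq_one ((hx m).2 ⟨1, by rw [hm, map_one]⟩)
  have hpow_of_dvd : ∀ m, minpoly F g ∣ X ^ m - 1 → o ∣ m := by
    rintro m ⟨c, hc⟩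
    apply hodiv
    have h3 := congrArg (aeval g) hc
    rw [map_mul, minpoly.aeval, zero_mul] at h3
    simpa [sub_eq_zero] using h3
  -- split off `X - 1`
  have hX1 : Irreducible (X - C (1 : F)) := irreducible_X_sub_C 1
  obtain ⟨k₁, b₁, hb₁, hfb₁⟩ := WfDvdMonoid.max_power_factor hμne hX1
  by_cases hu₁ : IsUnit b₁
  · right; right; right
    apply hpow_of_dvd
    have h3 : minpoly F g ∣ (X - C 1) ^ k₁ := by
      rw [hfb₁]
      exact (associated_mul_unit_left _ _ hu₁).dvd
    have h4 : k₁ ≤ 2 * n := by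
      have h5 : (X - C (1 : F)) ^ k₁ ∣ minpoly F g := Dvd.intro _ hfb₁.symm
      have h6 := natDegree_le_of_dvd h5 hμne
      rw [natDegree_pow, natDegree_X_sub_C, mul_one] at h6
      exact h6.trans hdeg
    refine h3.trans ((pow_dvd_pow _ (h4.trans (Nat.le_pow_clog hp.one_lt _))).trans ?_)
    rw [C_1, sub_pow_char_pow, one_pow]
  obtain ⟨f, hfmon, hf, hfdvd⟩ := Polynomial.exists_monic_irreducible_factor b₁ hu₁
  have hfμ : f ∣ minpoly F g := hfdvd.trans (Dvd.intro_left _ hfb₁.symm)
  have hfne : ¬ f ∣ X - 1 := by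
    intro h
    apply hb₁
    have h3 : Associated f (X - C 1) := hf.associated_of_dvd hX1 (by rw [C_1]; exact h)
    exact h3.symm.dvd.trans hfdvd
  have hfo : f ∣ X ^ o - 1 := hfμ.trans hmuo
  have hf0 := hcoeff f hfo
  have hgunit : ∃ g' : End F (Fin n ⊕ Fin n → F), g * g' = 1 ∧ g' * g = 1 := by
    refine ⟨g ^ (o - 1), ?_, ?_⟩
    · rw [← pow_succ', show o - 1 + 1 = o by omega, hgo]
    · rw [← pow_succ, show o - 1 + 1 = o by omega, hgo]
  obtain ⟨g', hgg', hg'g⟩ := hgunit
  have hself := hspace.ses.minpoly_selfdual (fun _ => rfl) hgg' hspace.isom hμ0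
  obtain ⟨a, b, k, hk, hab, hcop, hda, hdb, hcase⟩ :=
    selfdual_factor (RingHom.id F) (fun _ => rfl) hμ0 hself hf hfμ
  by_cases hbu : IsUnit b
  · -- the order of the root
    have heven : ∀ m, 2 ∣ Fintype.card F ^ m + 1 ∧ 2 ∣ Fintype.card F ^ m - 1 := by
      intro m
      obtain ⟨j, hj⟩ := hoddF.pow (n := m)
      rw [hj]
      exact ⟨⟨j + 1, by ring⟩, ⟨j, by omega⟩⟩
    have hassoc : Associated (minpoly F g) a := by
      rw [hab]; exact associated_mul_unit_left _ _ hbu
    have hdega : a.natDegree ≤ 2 * n := by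
      rw [← natDegree_eq_of_degree_eq (degree_eq_degree_of_associated hassoc)]; exact hdeg
    rcases hcase with ⟨h3, hff⟩ | ⟨h3, hcff⟩
    · -- self-dual
      obtain ⟨d, hd1, hd2, hd3⟩ := root_selfdual hf hff hodd hfo hfne
      have hdk : d * k ≤ n := by
        rw [h3, natDegree_pow, hd2] at hdega
        nlinarith
      -- the gcd of the two exponents
      have hs := gcd_dvd_of hfo hd3
      set s := Nat.gcd o (Fintype.card F ^ d + 1) with hs'
      have hs1 : s ∣ Fintype.card F ^ d + 1 := Nat.gcd_dvd_right _ _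
      have hsodd : Odd s := hodd.of_dvd_nat (Nat.gcd_dvd_left _ _)
      have hos : o ∣ s * p ^ Nat.clog p k := by
        apply hpow_of_dvd
        refine hassoc.dvd.trans ?_
        rw [h3]
        exact dvd_X_pow_of_factor hs
      rcases Nat.lt_or_ge d n with hdn | hdn
      · left
        obtain ⟨y, hy⟩ := exists_decomp' p d (n - d) n s (by omega) h2 hoddF hd1 (by omega) hsodd
          (Or.inr hs1)
        refine ⟨y, dvd_trans (Nat.mul_dvd_mul_left 2 (hos.trans (Nat.mul_dvd_mul_left s ?_))) hy⟩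
        exact pow_dvd_pow p (Nat.clog_mono_right p (arith1 hd1 hdn hdk))
      · right; right; left
        have hk1 : k = 1 := by
          have : n * k ≤ n := le_trans (Nat.mul_le_mul_right k hdn) hdk
          have h7 : k ≤ 1 := by
            by_contra hcon
            nlinarith
          omega
        have hdn' : d = n := by
          rw [hk1] at hdk; omega
        rw [hk1, Nat.clog_one_right, pow_zero, mul_one] at hos
        rw [hdn'] at hs1
        exact (hodd.coprime_two_left).mul_dvd_of_dvd_of_dvd (heven n).1 (hos.trans hs1)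
    · -- `f` and its dual are coprime
      set d := f.natDegree with hd
      have hd1 : 1 ≤ d := hf.natDegree_pos
      have hdk : d * k ≤ n := by
        rw [h3, natDegree_mul (pow_ne_zero _ hf.ne_zero) (pow_ne_zero _ (dl_ne_zero _ hf.ne_zero)),
          natDegree_pow, natDegree_pow, natDegree_dl _ hf0, ← hd] at hdega
        nlinarith
      have hfq : f ∣ X ^ (Fintype.card F ^ d - 1) - 1 := by
        have hfact : Fact (Irreducible f) := ⟨hf⟩
        rw [← AdjoinRoot.mk_eq_mk, map_pow, AdjoinRoot.mk_X, map_one]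
        have hfd' : FiniteDimensional F (AdjoinRoot f) := (AdjoinRoot.powerBasis hf.ne_zero).finite
        have hfin : Finite (AdjoinRoot f) := Module.finite_of_finite F
        have := Fintype.ofFinite (AdjoinRoot f)
        have hdd : finrank F (AdjoinRoot f) = f.natDegree := by
          rw [(AdjoinRoot.powerBasis hf.ne_zero).finrank, AdjoinRoot.powerBasis_dim]
        have hcard : Fintype.card (AdjoinRoot f) = Fintype.card F ^ d := by
          rw [Module.card_eq_pow_finrank (K := F), hdd]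
        rw [← hcard]
        apply FiniteField.pow_card_sub_one_eq_one
        intro h0
        rw [← AdjoinRoot.mk_X, AdjoinRoot.mk_eq_zero] at h0
        obtain ⟨c, hc⟩ := h0
        have h7 := congrArg (fun f => coeff f 0) hc
        simp only [coeff_X_zero, mul_coeff_zero] at h7
        have h8 : c.coeff 0 = 0 := (mul_eq_zero.1 h7.symm).resolve_left hf0
        have h9 : X ∣ c := X_dvd_iff.2 h8
        obtain ⟨c', hc'⟩ := h9
        rw [hc'] at hc
        have h10 : f * c' = 1 := by
          have : X * (f * c') = X * 1 := by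
            rw [mul_one]; nth_rewrite 2 [hc]; ring
          exact mul_left_cancel₀ X_ne_zero this
        exact hf.not_isUnit (IsUnit.of_mul_eq_one _ h10)
      have hs := gcd_dvd_of hfo hfq
      set s := Nat.gcd o (Fintype.card F ^ d - 1) with hs'
      have hs1 : s ∣ Fintype.card F ^ d - 1 := Nat.gcd_dvd_right _ _
      have hsodd : Odd s := hodd.of_dvd_nat (Nat.gcd_dvd_left _ _)
      have hos : o ∣ s * p ^ Nat.clog p k := by
        apply hpow_of_dvd
        refine hassoc.dvd.trans ?_
        rw [h3]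
        exact (hcff.pow).mul_dvd (dvd_X_pow_of_factor hs)
          (dvd_X_pow_of_factor (dl_dvd_X_pow_sub_one _ hs))
      rcases Nat.lt_or_ge d n with hdn | hdn
      · left
        obtain ⟨y, hy⟩ := exists_decomp' p d (n - d) n s (by omega) h2 hoddF hd1 (by omega) hsodd
          (Or.inl hs1)
        refine ⟨y, dvd_trans (Nat.mul_dvd_mul_left 2 (hos.trans (Nat.mul_dvd_mul_left s ?_))) hy⟩
        exact pow_dvd_pow p (Nat.clog_mono_right p (arith1 hd1 hdn hdk))
      · right; left
        have hk1 : k = 1 := by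
          have : n * k ≤ n := le_trans (Nat.mul_le_mul_right k hdn) hdk
          have h7 : k ≤ 1 := by
            by_contra hcon
            nlinarith
          omega
        have hdn' : d = n := by
          rw [hk1] at hdk; omega
        rw [hk1, Nat.clog_one_right, pow_zero, mul_one] at hos
        rw [hdn'] at hs1
        exact (hodd.coprime_two_left).mul_dvd_of_dvd_of_dvd (heven n).2 (hos.trans hs1)
  · -- orthogonally decomposable
    left
    have hau : ¬ IsUnit a := by
      intro h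
      rcases hcase with ⟨h3, -⟩ | ⟨h3, -⟩
      · rw [h3] at h
        exact hf.not_isUnit ((isUnit_pow_iff hk).1 h)
      · rw [h3] at h
        exact hf.not_isUnit ((isUnit_pow_iff hk).1 (isUnit_of_mul_isUnit_left h))
    obtain ⟨e, h1, h3, h4, h5, h6⟩ := hspace.ses.exists_idempotent (fun _ => rfl) hgg' hg'g
      hspace.isom hμne hab hcop hau hbu hda hdb
    exact hspace.exists_mul_two h2 hx hodd h1 h3 h4 h5 h6

end Cfsg.Agent.H159
end
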